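import Mathlib.Tactic.Linarith
import Mathlib.Tactic.Ring
import Mathlib.Tactic.LinearCombination
import Mathlib.Data.Nat.Prime.Basic
import Mathlib.Data.Int.ModEq

/-!
# The arithmetic of `n = (h u p + u ^ 2 + u + h) / (u + 1)`
-/

set_option autoImplicit false

namespace Cfsg.Agent.Lib.BrauerPrime

/-- `n` has the form `(h u p + u ^ 2 + u + h) / (u + 1)` with positive `h` and `u`. -/
def HasForm (p n : ℕ) : Prop :=
  ∃ h u : ℕ, 0 < h ∧ 0 < u ∧ n * (u + 1) = h * u * p + u ^ 2 + u + h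

theorem HasForm.le {p n : ℕ} (hf : HasForm p n) : p + 3 ≤ 2 * n := by
  obtain ⟨h, u, hh, hu, he⟩ := hf
  by_contra hlt
  have h1 : (2 * n + 1) * (u + 1) ≤ (p + 3) * (u + 1) := Nat.mul_le_mul_right _ (by omega)
  have h2 : u * p + u ^ 2 + u + 1 ≤ n * (u + 1) := by
    rw [he, mul_assoc]
    have : u * p ≤ h * (u * p) := Nat.le_mul_of_pos_left _ hh
    linarith
  obtain ⟨w, rfl⟩ : ∃ w, u = w + 1 := ⟨u - 1, by omega⟩
  nlinarith [Nat.zero_le (w * p), Nat.zero_le (w * w)]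

/-- A product of two numbers of Sylow subgroups greater than one has the form. -/
theorem hasForm_mul {p n i j : ℕ} (hp : 0 < p) (hi : 0 < i) (hj : 0 < j)
    (h : 1 + n * p = (1 + i * p) * (1 + j * p)) : HasForm p n := by
  have hn : n = i + j + i * j * p := by
    have : p * n = p * (i + j + i * j * p) := by linarith
    exact Nat.eq_of_mul_eq_mul_left hp this
  refine ⟨(j + 1) * i, j, Nat.mul_pos (by omega) hi, hj, ?_⟩
  subst hn
  ring

/-- A divisor congruent to `1` of `(p - 1) (1 + n p)` is trivial, `1 + n p`, or shows the form. -/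
theorem eq_one_or_eq {p n D : ℕ} (hp : 2 ≤ p) (hF : ¬ HasForm p n)
    (hd : D ∣ (p - 1) * (1 + n * p)) (hm : D % p = 1) : D = 1 ∨ D = 1 + n * p := by
  by_contra hcon
  push Not at hcon
  obtain ⟨k', hk'⟩ := hd
  obtain ⟨q, rfl⟩ : ∃ q, p = q + 1 := ⟨p - 1, by omega⟩
  rw [Nat.add_sub_cancel] at hk'
  obtain ⟨u, hD⟩ : ∃ u, D = u * (q + 1) + 1 := by
    refine ⟨D / (q + 1), ?_⟩
    have := Nat.div_add_mod D (q + 1)
    rw [hm] at this
    linarith
  have hu0 : 0 < u := by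
    by_contra h
    have : u = 0 := Nat.le_zero.1 (not_lt.1 h)
    subst this
    simp only [zero_mul, zero_add] at hD
    exact hcon.1 hD
  -- `D` is at most `1 + n p`
  have hk'm : k' % (q + 1) = q := by
    have h1 := congrArg (· % (q + 1)) hk'
    simp only [Nat.mul_mod D k', hm, one_mul, Nat.mod_mod] at h1
    rw [← h1, Nat.mul_mod, Nat.add_mul_mod_self_right, Nat.mod_eq_of_lt (show 1 < q + 1 by omega),
      mul_one, Nat.mod_mod, Nat.mod_eq_of_lt (Nat.lt_succ_self q)]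
  have hk'le : q ≤ k' := hk'm ▸ Nat.mod_le _ _
  have hle : D ≤ 1 + n * (q + 1) := by
    have : q * D ≤ q * (1 + n * (q + 1)) := by
      rw [hk', mul_comm q D]
      exact Nat.mul_le_mul_left D hk'le
    exact Nat.le_of_mul_le_mul_left this (by omega)
  -- `D` divides `(u + 1) (1 + n p)`
  have hdz : (D : ℤ) ∣ ((u : ℤ) + 1) * (1 + n * (q + 1)) := by
    refine ⟨(1 + n * (q + 1)) - u * k', ?_⟩
    have hk'' : ((q : ℤ)) * (1 + n * (q + 1)) = D * k' := by exact_mod_cast hk'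
    have hD' : (D : ℤ) = u * (q + 1) + 1 := by exact_mod_cast hD
    linear_combination (u : ℤ) * (-hk'') + (1 + (n : ℤ) * (q + 1)) * (-hD')
  obtain ⟨k, hk⟩ : D ∣ (u + 1) * (1 + n * (q + 1)) := by exact_mod_cast hdz
  have hkgt : u + 1 < k := by
    by_contra h
    have h1 : (u + 1) * (1 + n * (q + 1)) ≤ (u + 1) * D := by
      rw [hk, mul_comm (u + 1) D]
      exact Nat.mul_le_mul_left D (by omega)
    have h2 : 1 + n * (q + 1) ≤ D := Nat.le_of_mul_le_mul_left h1 (by omega)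
    exact hcon.2 (le_antisymm hle h2)
  obtain ⟨h, hh⟩ : ∃ h, k = u + 1 + h * (q + 1) := by
    have h1 : (k - (u + 1)) % (q + 1) = 0 := by
      refine Nat.sub_mod_eq_zero_of_mod_eq ?_
      have h2 := congrArg (· % (q + 1)) hk
      simp only [Nat.mul_mod D k, hm, one_mul, Nat.mod_mod] at h2
      rw [← h2, Nat.mul_mod, Nat.add_mul_mod_self_right,
        Nat.mod_eq_of_lt (show 1 < q + 1 by omega), mul_one, Nat.mod_mod]
    refine ⟨(k - (u + 1)) / (q + 1), ?_⟩
    have := Nat.div_add_mod (k - (u + 1)) (q + 1)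
    rw [h1, mul_comm] at this
    omega
  subst hh
  refine hF ⟨h, u, ?_, hu0, ?_⟩
  · by_contra h0
    have : h = 0 := by omega
    subst this
    omega
  · rw [hD] at hk
    have : (q + 1) * (n * (u + 1)) = (q + 1) * (h * u * (q + 1) + u ^ 2 + u + h) := by linarith
    exact Nat.eq_of_mul_eq_mul_left (by omega) this

/-- Degrees congruent to `1`. -/
theorem plus_degree {p n e D : ℕ} (hp : 2 ≤ p) (hF : ¬ HasForm p n) (he : e ∣ p - 1)
    (hd : D ∣ e * (1 + n * p)) (hm : (D : ℤ) ≡ 1 [ZMOD p]) : D = 1 ∨ D = 1 + n * p := by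
  refine eq_one_or_eq hp hF (hd.trans (Nat.mul_dvd_mul_right he _)) ?_
  have : D ≡ 1 [MOD p] := Int.natCast_modEq_iff.1 (by exact_mod_cast hm)
  rw [this, Nat.one_mod_eq_one.2 (by omega)]

/-- Degrees congruent to `-1`. -/
theorem minus_degree {p n e D : ℕ} (hp : 2 ≤ p) (hF : ¬ HasForm p n) (he : e ∣ p - 1)
    (hd : D ∣ e * (1 + n * p)) (hm : (D : ℤ) ≡ -1 [ZMOD p]) :
    D = p - 1 ∨ D = (p - 1) * (1 + n * p) := by
  obtain ⟨k, hk⟩ := hd.trans (Nat.mul_dvd_mul_right he _)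
  have hkm : (k : ℤ) ≡ 1 [ZMOD p] := by
    have h1 : ((D : ℤ) * k) ≡ -1 [ZMOD p] := by
      have h2 : ((D * k : ℕ) : ℤ) = ((p : ℤ) - 1) * (1 + n * p) := by
        rw [← hk]; push_cast [Nat.cast_sub (show 1 ≤ p by omega)]; ring
      push_cast at h2
      rw [h2, Int.modEq_iff_dvd]
      exact ⟨(n : ℤ) - 1 - n * p, by ring⟩
    have h3 := (hm.symm.mul_right (k : ℤ)).trans h1
    have := h3.mul_left (-1)
    simpa using this
  have hk1 : k % p = 1 := by
    have : k ≡ 1 [MOD p] := Int.natCast_modEq_iff.1 (by exact_mod_cast hkm)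
    rw [this, Nat.one_mod_eq_one.2 (by omega)]
  rcases eq_one_or_eq hp hF (Dvd.intro_left D hk.symm) hk1 with rfl | rfl
  · right; rw [hk, mul_one]
  · left
    exact (Nat.eq_of_mul_eq_mul_right (by positivity) hk).symm

end Cfsg.Agent.Lib.BrauerPrime
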