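import Cfsg.Agent.Lib.Blocks.PrimeOrderPrincipal
import Cfsg.Agent.Lib.Blocks.Exists
import Cfsg.Agent.Lib.Characters.Kernel
import Cfsg.Agent.Lib.Characters.Integrality
import Cfsg.Agent.Lib.BrauerPrime.Arith
import Mathlib.GroupTheory.Transfer

/-!
# Perfect groups with a Sylow subgroup of order `p`: basic facts
-/

set_option autoImplicit false
set_option linter.unusedSectionVars false
set_option linter.style.haveILetI false

namespace Cfsg.Agent.Lib.BrauerPrime

open Cfsg Cfsg.Agent.Lib.Characters Cfsg.Agent.Lib.Blocks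
open scoped ComplexConjugate

universe u

variable {G : Type u} [Group G]

/-- The powers of `v`, indexed by `ZMod m`. -/
def cpow {m : ℕ} (v : G) (i : ZMod m) : G := v ^ i.val

theorem cpow_natCast {m : ℕ} {v : G} (hv : v ^ m = 1) (k : ℕ) : cpow (m := m) v k = v ^ k := by
  rw [cpow, ZMod.val_natCast, ← pow_eq_pow_mod _ hv]

theorem cpow_zero {m : ℕ} (v : G) : cpow (m := m) v 0 = 1 := by simp [cpow]

theorem cpow_add {m : ℕ} [NeZero m] {v : G} (hv : v ^ m = 1) (i j : ZMod m) :
    cpow v (i + j) = cpow v i * cpow v j := by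
  rw [cpow, cpow, cpow, ← pow_add, ZMod.val_add, ← pow_eq_pow_mod _ hv]

/-- The projection attached to a linear character of the cyclic group generated by `v`. -/
noncomputable def proj {V : Type*} [AddCommGroup V] [Module ℂ V] {m : ℕ} [NeZero m]
    (ρ : Representation ℂ G V) (v : G) (l : ZMod m) : Module.End ℂ V :=
  (m : ℂ)⁻¹ • ∑ i : ZMod m, ZMod.stdAddChar (-(i * l)) • ρ (cpow v i)

theorem proj_sq {V : Type*} [AddCommGroup V] [Module ℂ V] {m : ℕ} [NeZero m]
    (ρ : Representation ℂ G V) {v : G} (hv : v ^ m = 1) (l : ZMod m) :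
    proj ρ v l * proj ρ v l = proj ρ v l := by
  have h : ∀ a : ZMod m, (ZMod.stdAddChar (-(a * l)) • ρ (cpow v a)) *
      (∑ i : ZMod m, ZMod.stdAddChar (-(i * l)) • ρ (cpow v i)) =
      ∑ i : ZMod m, ZMod.stdAddChar (-(i * l)) • ρ (cpow v i) := by
    intro a
    rw [Finset.mul_sum]
    refine Fintype.sum_equiv (Equiv.addLeft a) _ _ fun b => ?_
    rw [smul_mul_smul_comm, ← AddChar.map_add_eq_mul, ← map_mul, ← cpow_add hv,
      Equiv.coe_addLeft, add_mul, neg_add]
  simp only [proj, smul_mul_smul_comm, Finset.sum_mul]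
  rw [Finset.sum_congr rfl fun a _ => h a, Finset.sum_const, Finset.card_univ, ZMod.card,
    ← Nat.cast_smul_eq_nsmul ℂ, smul_smul, mul_assoc,
    inv_mul_cancel₀ (Nat.cast_ne_zero.2 (NeZero.ne m)), mul_one]

theorem trace_idempotent {V : Type*} [AddCommGroup V] [Module ℂ V] [FiniteDimensional ℂ V]
    {Q : Module.End ℂ V} (hQ : Q * Q = Q) :
    LinearMap.trace ℂ V Q = (Module.finrank ℂ (LinearMap.range Q) : ℂ) :=
  LinearMap.IsProj.trace ⟨fun x => ⟨x, rfl⟩, by rintro _ ⟨y, rfl⟩; rw [← Module.End.mul_apply, hQ]⟩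

/-- The sum over a cyclic subgroup of a character is a multiple of its order; if it vanishes then
the sums over all translates vanish. -/
theorem sum_translate_eq_zero [Finite G] {m : ℕ} [NeZero m] {χ : G → ℂ} (hχ : IsCharacter G χ) {v : G}
    (hv : v ^ m = 1) (h0 : ∑ i : ZMod m, χ (cpow v i) = 0) (y : G) :
    ∑ i : ZMod m, χ (cpow v i * y) = 0 := by
  obtain ⟨n, ρ, rfl⟩ := hχ
  have hsq := proj_sq ρ hv (0 : ZMod m)
  have htr : ∀ g, LinearMap.trace ℂ _ (proj ρ v (0 : ZMod m) * ρ g) =
      (m : ℂ)⁻¹ * ∑ i : ZMod m, ρ.character (cpow v i * g) := by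
    intro g
    simp only [proj, mul_zero, neg_zero, AddChar.map_zero_eq_one, one_smul, smul_mul_assoc,
      Finset.sum_mul, map_smul, map_sum, smul_eq_mul, Representation.character, map_mul]
  have hz : proj ρ v (0 : ZMod m) = 0 := by
    have h1 := htr 1
    simp only [map_one, mul_one, h0, mul_zero] at h1
    rw [trace_idempotent hsq, Nat.cast_eq_zero, Submodule.finrank_eq_zero] at h1
    exact LinearMap.range_eq_bot.1 h1
  have h2 := htr y
  rw [hz, zero_mul, map_zero, eq_comm] at h2
  exact (mul_eq_zero.1 h2).resolve_left (inv_ne_zero (Nat.cast_ne_zero.2 (NeZero.ne m)))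

variable [Fintype G]

/-- The degree divides the class size times an integral value. -/
theorem degree_dvd_of_value (χ : IrrCharacter G) {g : G} {ε : ℤ} (hε : ε = 1 ∨ ε = -1)
    (hval : (χ : G → ℂ) g = (ε : ℂ)) :
    charDegree (χ : G → ℂ) ∣ (Subgroup.centralizer ({g} : Set G)).index := by
  have hint := isIntegral_centralChar_irr χ.2 g
  rw [centralChar, hval, ← charDegree_eq χ] at hint
  obtain ⟨z, hz⟩ := exists_int_of_isIntegral_rat
    (q := ((((Subgroup.centralizer ({g} : Set G)).index : ℤ) * ε : ℤ) : ℚ) /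
      (charDegree (χ : G → ℂ) : ℚ)) (by convert hint using 1; push_cast; ring)
  rw [div_eq_iff (Nat.cast_ne_zero.2 (charDegree_pos χ).ne')] at hz
  have hz' : (((Subgroup.centralizer ({g} : Set G)).index : ℤ) * ε) = z * (charDegree (χ : G → ℂ) : ℤ) := by
    exact_mod_cast hz
  have hd : (charDegree (χ : G → ℂ) : ℤ) ∣ ((Subgroup.centralizer ({g} : Set G)).index : ℤ) := by
    rcases hε with rfl | rfl
    · exact ⟨z, by linear_combination hz'⟩
    · exact ⟨-z, by linear_combination -hz'⟩
  exact_mod_cast hd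

/-- The degree divides the common class size times an integral sum of values. -/
theorem degree_dvd_of_sum (χ : IrrCharacter G) {ι : Type*} (s : Finset ι) (v : ι → G) (I : ℕ)
    (hI : ∀ i ∈ s, (Subgroup.centralizer ({v i} : Set G)).index = I) {c : ℤ}
    (hsum : ∑ i ∈ s, (χ : G → ℂ) (v i) = (c : ℂ)) :
    (charDegree (χ : G → ℂ) : ℤ) ∣ (I : ℤ) * c := by
  have hint : IsIntegral ℤ (∑ i ∈ s, centralChar (χ : G → ℂ) (v i)) :=
    IsIntegral.sum _ fun i _ => isIntegral_centralChar_irr χ.2 (v i)
  have he : ∑ i ∈ s, centralChar (χ : G → ℂ) (v i) = ((((I : ℤ) * c : ℤ) : ℚ) /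
      (charDegree (χ : G → ℂ) : ℚ) : ℚ) := by
    rw [Finset.sum_congr rfl fun i hi => show centralChar (χ : G → ℂ) (v i) =
      (I : ℂ) * (χ : G → ℂ) (v i) / (χ : G → ℂ) 1 by rw [centralChar, hI i hi],
      ← Finset.sum_div, ← Finset.mul_sum, hsum, ← charDegree_eq χ]
    push_cast
    rfl
  rw [he] at hint
  obtain ⟨z, hz⟩ := exists_int_of_isIntegral_rat hint
  rw [div_eq_iff (Nat.cast_ne_zero.2 (charDegree_pos χ).ne')] at hz
  have hz' : ((I : ℤ) * c) = z * (charDegree (χ : G → ℂ) : ℤ) := by exact_mod_cast hz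
  exact ⟨z, by linear_combination hz'⟩

/-- Linear characters of perfect groups are trivial. -/
theorem eq_trivIrr_of_degree_one (hperf : commutator G = ⊤) (χ : IrrCharacter G)
    (h1 : charDegree (χ : G → ℂ) = 1) : χ = trivIrr G := by
  have h : (χ : G → ℂ) 1 = 1 := by rw [← charDegree_eq χ, h1, Nat.cast_one]
  obtain ⟨lam, hlam⟩ := IsCharacter.exists_hom_of_apply_one (irr_isCharacter χ) h
  have hker : commutator G ≤ lam.ker := Abelianization.commutator_subset_ker lam
  refine Subtype.ext (funext fun g => ?_)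
  rw [hlam, trivIrr_apply]
  show ((lam g : ℂˣ) : ℂ) = 1
  rw [MonoidHom.mem_ker.1 (hker (hperf ▸ Subgroup.mem_top g)), Units.val_one]

variable {p : ℕ} [hp : Fact p.Prime]

theorem sq_not_dvd (P : Sylow p G) (hP : Nat.card P = p) : ¬ p ^ 2 ∣ Nat.card G := by
  intro h
  have h1 := Sylow.card_eq_multiplicity P
  have h2 := (hp.out.pow_dvd_iff_le_factorization Nat.card_pos.ne').1 h
  have h3 : (Nat.card G).factorization p = 1 :=
    Nat.pow_right_injective hp.out.two_le
      (show p ^ _ = p ^ 1 from h1.symm.trans (hP.trans (pow_one p).symm))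
  omega

/-- In a perfect group a Sylow subgroup of order `p` is not central in its normalizer. -/
theorem not_normalizer_le_centralizer (hperf : commutator G = ⊤) (P : Sylow p G)
    (hP : Nat.card P = p) :
    ¬ Subgroup.normalizer ((P : Subgroup G) : Set G) ≤
      Subgroup.centralizer ((P : Subgroup G) : Set G) := by
  intro hle
  haveI : IsMulCommutative (P : Subgroup G) := ⟨⟨fun a b => Subtype.ext
    (Subgroup.mem_centralizer_iff.1 (hle (Subgroup.le_normalizer b.2)) a a.2)⟩⟩
  letI : CommGroup (P : Subgroup G) := { (inferInstance : Group (P : Subgroup G)) with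
    mul_comm := fun a b => (inferInstance : IsMulCommutative (P : Subgroup G)).is_comm.comm a b }
  have hk : commutator G ≤ (MonoidHom.transferSylow P hle).ker :=
    Abelianization.commutator_subset_ker _
  rw [hperf, top_le_iff] at hk
  have hc := MonoidHom.ker_transferSylow_isComplement' P hle
  rw [hk] at hc
  have := hc.card_mul
  rw [Subgroup.card_top, show Nat.card (P : Subgroup G) = p from hP] at this
  exact hp.out.one_lt.ne' (mul_left_cancel₀ Nat.card_pos.ne' (this.trans (mul_one _).symm))

theorem card_sylow_eq_index (P : Sylow p G) :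
    Nat.card (Sylow p G) = (Subgroup.normalizer ((P : Subgroup G) : Set G)).index :=
  P.card_eq_index_normalizer

/-- The index of the centralizer of a non-trivial element of `P`. -/
theorem index_centralizer (P : Sylow p G) (hP : Nat.card P = p) {x : G} (hx : x ∈ (P : Subgroup G))
    (hx1 : x ≠ 1) :
    (Subgroup.centralizer ({x} : Set G)).index =
      (Subgroup.centralizer ((P : Subgroup G) : Set G)).relIndex
        (Subgroup.normalizer ((P : Subgroup G) : Set G)) * Nat.card (Sylow p G) := by
  have h1 : Subgroup.centralizer ({x} : Set G) = Subgroup.centralizer ((P : Subgroup G) : Set G) := by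
    refine le_antisymm (fun g hg => ?_) (Subgroup.centralizer_le (Set.singleton_subset_iff.2 hx))
    refine Subgroup.mem_centralizer_iff.2 fun y hy => ?_
    obtain ⟨i, rfl⟩ := exists_upow_eq hP hx hx1 hy
    exact Commute.pow_left (Subgroup.mem_centralizer_singleton_iff.1 hg).symm i.val
  rw [h1, card_sylow_eq_index P, Subgroup.relIndex_mul_index (Subgroup.centralizer_le_normalizer _)]

end Cfsg.Agent.Lib.BrauerPrime
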