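import Cfsg.Agent.Lib.BrauerPrime.Basic
import Cfsg.Agent.Lib.Components.Fitting

/-!
# A self-centralizing Sylow subgroup of order `p`
-/

set_option autoImplicit false
set_option linter.unusedSectionVars false
set_option linter.style.haveILetI false

namespace Cfsg.Agent.Lib.BrauerPrime

open Cfsg Cfsg.Agent.Lib.Characters Cfsg.Agent.Lib.Blocks
open scoped ComplexConjugate Pointwise

universe u

variable {G : Type u} [Group G] [Fintype G] {p : ℕ} [hp : Fact p.Prime]

/-- `[N(P) : C(P)]` for a Sylow subgroup of order `p` in a perfect group. -/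
theorem index_facts (hperf : commutator G = ⊤) (P : Sylow p G) (hP : Nat.card P = p) {e : ℕ}
    (he : (Subgroup.centralizer ((P : Subgroup G) : Set G)).relIndex
      (Subgroup.normalizer ((P : Subgroup G) : Set G)) = e) :
    2 ≤ e ∧ e ∣ p - 1 ∧ p ≠ 2 := by
  obtain ⟨⟨u, hu⟩, hu1'⟩ : ∃ x : (P : Subgroup G), x ≠ 1 := by
    haveI : Nontrivial (P : Subgroup G) :=
      Finite.one_lt_card_iff_nontrivial.1 ((show Nat.card (P : Subgroup G) = p from hP).symm ▸ hp.out.one_lt)
    exact exists_ne 1
  have hu1 : u ≠ 1 := fun h => hu1' (Subtype.ext h)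
  obtain ⟨t, r, -, -, -, hprim, -, -⟩ :=
    exists_normalizer_generator (P : Subgroup G) hP (sq_not_dvd P hP) hu hu1
  rw [he] at hprim
  have h0 : e ≠ 0 := by rw [← he]; exact Subgroup.index_ne_zero_of_finite
  have hr0 : (r : ZMod p) ≠ 0 := hprim.ne_zero h0
  have hd : e ∣ p - 1 := hprim.dvd_of_pow_eq_one _ (ZMod.pow_card_sub_one_eq_one hr0)
  have h1 : e ≠ 1 := fun h => not_normalizer_le_centralizer hperf P hP
    (Subgroup.relIndex_eq_one.1 (he.trans h))
  refine ⟨by omega, hd, fun h2 => ?_⟩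
  have := Nat.le_of_dvd (by omega) hd
  omega

/-- A perfect group has at least `p + 1` Sylow subgroups of order `p`. -/
theorem sylow_param_pos (hperf : commutator G = ⊤) (P : Sylow p G) (hP : Nat.card P = p) {n : ℕ}
    (hn : Nat.card (Sylow p G) = 1 + n * p) : 0 < n := by
  by_contra h0
  have hn0 : n = 0 := by omega
  rw [hn0, zero_mul, add_zero, card_sylow_eq_index P, Subgroup.index_eq_one] at hn
  haveI hnor : (P : Subgroup G).Normal := Subgroup.normalizer_eq_top_iff.1 hn
  haveI : IsCyclic (P : Subgroup G) := isCyclic_of_prime_card hP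
  refine not_normalizer_le_centralizer hperf P hP fun g _ => ?_
  have hk : commutator G ≤ (MulAut.conjNormal (H := (P : Subgroup G))).ker := by
    rw [commutator_def, Subgroup.commutator_le]
    intro a _ b _
    rw [MonoidHom.mem_ker, map_commutatorElement, commutatorElement_eq_one_iff_commute]
    let e := IsCyclic.mulAutMulEquiv (P : Subgroup G)
    exact e.injective ((map_mul e (MulAut.conjNormal (H := (P : Subgroup G)) a) (MulAut.conjNormal (H := (P : Subgroup G)) b)).trans
      ((mul_comm _ _).trans (map_mul e (MulAut.conjNormal (H := (P : Subgroup G)) b) (MulAut.conjNormal (H := (P : Subgroup G)) a)).symm))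
  have hg : MulAut.conjNormal (H := (P : Subgroup G)) g = 1 :=
    MonoidHom.mem_ker.1 (hk (hperf ▸ Subgroup.mem_top g))
  rw [Subgroup.mem_centralizer_iff]
  intro x hx
  have h := congrArg (fun φ : MulAut (P : Subgroup G) => ((φ ⟨x, hx⟩ : (P : Subgroup G)) : G)) hg
  simp only [MulAut.conjNormal_apply, MulAut.one_apply] at h
  calc x * g = g * x * g⁻¹ * g := by rw [h]
    _ = g * x := by group

/-- An integral sum of values over `P` gives the degree as a divisor of `[G : C(P)]`. -/
theorem degree_dvd_of_sum_sylow (P : Sylow p G) (hP : Nat.card P = p) {e : ℕ}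
    (he : (Subgroup.centralizer ((P : Subgroup G) : Set G)).relIndex
      (Subgroup.normalizer ((P : Subgroup G) : Set G)) = e)
    {u : G} (hu : u ∈ (P : Subgroup G)) (hu1 : u ≠ 1) (θ : IrrCharacter G) {ε : ℤ}
    (hε : ε = 1 ∨ ε = -1)
    (hsum : ∑ i ∈ (Finset.univ : Finset (ZMod p)).erase 0, (θ : G → ℂ) (upow u i) =
      -(ε : ℂ) * (e : ℂ)) :
    charDegree (θ : G → ℂ) ∣ e * Nat.card (Sylow p G) := by
  classical
  have hsq := sq_not_dvd P hP
  have hordu : orderOf u = p := orderOf_of_mem_prime hP hu hu1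
  have hup : u ^ p = 1 := hordu ▸ pow_orderOf_eq_one u
  obtain ⟨t, r, -, -, htu, hprim, -, -⟩ :=
    exists_normalizer_generator (P : Subgroup G) hP hsq hu hu1
  rw [he] at hprim
  have he0 : 0 < e := Nat.pos_of_ne_zero (by rw [← he]; exact Subgroup.index_ne_zero_of_finite)
  haveI : NeZero e := ⟨he0.ne'⟩
  set S := (Finset.univ : Finset (ZMod p)).erase 0 with hS
  -- the values are constant on the fibres of `i ↦ i ^ e`
  have hconst : ∀ i ∈ S, ∀ j ∈ S, i ^ e = j ^ e → (θ : G → ℂ) (upow u i) = (θ : G → ℂ) (upow u j) := by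
    intro i hi j _ hij
    have hi0 : i ≠ 0 := (Finset.mem_erase.1 hi).1
    obtain ⟨s, -, hs⟩ := hprim.eq_pow_of_pow_eq_one (ξ := j * i⁻¹)
      (by rw [mul_pow, inv_pow, ← hij, mul_inv_cancel₀ (pow_ne_zero _ hi0)])
    have hct : ∀ (s : ℕ) (i : ZMod p),
        t ^ s * upow u i * (t ^ s)⁻¹ = upow u ((r : ZMod p) ^ s * i) := by
      intro s
      induction s with
      | zero => intro i; simp
      | succ s ih =>
        intro i
        rw [pow_succ, show t ^ s * t * upow u i * (t ^ s * t)⁻¹ = t ^ s * (t * upow u i * t⁻¹) * (t ^ s)⁻¹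
          by group, show t * upow u i * t⁻¹ = upow u ((r : ZMod p) * i) by
            rw [upow, ← conj_pow, htu, ← pow_mul, mul_comm r, pow_mul, upow_mul_natCast hup]
            rfl, ih, pow_succ, mul_assoc]
    rw [show j = (r : ZMod p) ^ s * i by rw [hs, inv_mul_cancel_right₀ hi0], ← hct]
    exact (IsCharacter.conj_apply (irr_isCharacter θ) (upow u i) (t ^ s)).symm
  -- hence the sum is `e` times a sum over representatives
  set R := S.image (· ^ e) with hR
  choose rep hrepS hrep using fun c : R => Finset.mem_image.1 c.2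
  have hfib : ∀ c : R, (S.filter fun i => i ^ e = (c : ZMod p)).card = e := by
    intro c
    have h : S.filter (fun i => i ^ e = (c : ZMod p)) =
        (Finset.range e).image fun s => (r : ZMod p) ^ s * rep c := by
      ext i
      simp only [Finset.mem_filter, Finset.mem_image, Finset.mem_range]
      constructor
      · rintro ⟨hi, hic⟩
        obtain ⟨s, hs, hs'⟩ := hprim.eq_pow_of_pow_eq_one (ξ := i * (rep c)⁻¹)
          (by rw [mul_pow, inv_pow, hrep c, ← hic,
            mul_inv_cancel₀ (pow_ne_zero _ (Finset.mem_erase.1 hi).1)])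
        exact ⟨s, hs, by rw [hs', inv_mul_cancel_right₀ (Finset.mem_erase.1 (hrepS c)).1]⟩
      · rintro ⟨s, -, rfl⟩
        refine ⟨Finset.mem_erase.2 ⟨mul_ne_zero (pow_ne_zero _ (hprim.ne_zero he0.ne'))
          (Finset.mem_erase.1 (hrepS c)).1, Finset.mem_univ _⟩, ?_⟩
        rw [mul_pow, ← pow_mul, mul_comm s, pow_mul, hprim.pow_eq_one, one_pow, one_mul, hrep c]
    rw [h, Finset.card_image_of_injOn, Finset.card_range]
    intro s hs s' hs' h'
    exact hprim.pow_inj (Finset.mem_range.1 hs) (Finset.mem_range.1 hs')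
      (mul_right_cancel₀ (Finset.mem_erase.1 (hrepS c)).1 h')
  have hsplit : ∑ i ∈ S, (θ : G → ℂ) (upow u i) =
      (e : ℂ) * ∑ c : R, (θ : G → ℂ) (upow u (rep c)) := by
    rw [← Finset.sum_fiberwise_of_maps_to (t := R) (g := (· ^ e))
      (fun i hi => Finset.mem_image_of_mem _ hi), Finset.mul_sum,
      ← Finset.sum_coe_sort R]
    refine Finset.sum_congr rfl fun c _ => ?_
    rw [Finset.sum_congr rfl fun i hi => hconst i (Finset.mem_filter.1 hi).1 (rep c) (hrepS c)
      ((Finset.mem_filter.1 hi).2.trans (hrep c).symm), Finset.sum_const, hfib, nsmul_eq_mul]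
  rw [hsum] at hsplit
  have hsum' : ∑ c : R, (θ : G → ℂ) (upow u (rep c)) = ((-ε : ℤ) : ℂ) := by
    have he1 : (e : ℂ) ≠ 0 := Nat.cast_ne_zero.2 he0.ne'
    apply mul_left_cancel₀ he1
    rw [← hsplit]; push_cast; ring
  have hdv := degree_dvd_of_sum θ Finset.univ (fun c : R => upow u (rep c))
    (e * Nat.card (Sylow p G))
    (fun c _ => by
      rw [index_centralizer P hP (upow_mem hu _)
        (fun h => (Finset.mem_erase.1 (hrepS c)).1 ((upow_eq_one_iff hordu _).1 h)), he]) hsum'
  rcases hε with rfl | rfl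
  · rw [mul_neg, mul_one, dvd_neg] at hdv
    exact_mod_cast hdv
  · rw [neg_neg, mul_one] at hdv
    exact_mod_cast hdv

/-- A Sylow subgroup of order `p` is self centralizing unless `n` has the exceptional form. -/
theorem centralizer_eq (hperf : commutator G = ⊤) (P : Sylow p G) (hP : Nat.card P = p) {n : ℕ}
    (hn : Nat.card (Sylow p G) = 1 + n * p) (hF : ¬ HasForm p n) (hO : pPrimeCore p G = ⊥) :
    Subgroup.centralizer ((P : Subgroup G) : Set G) = (P : Subgroup G) := by
  classical
  obtain ⟨M, hM⟩ := exists_isPModular hp.out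
  haveI : M.IsPrime := hM.2.1.isPrime
  set e := (Subgroup.centralizer ((P : Subgroup G) : Set G)).relIndex
    (Subgroup.normalizer ((P : Subgroup G) : Set G)) with he
  obtain ⟨he2, hed, hodd⟩ := index_facts hperf P hP he.symm
  have hn0 := sylow_param_pos hperf P hP hn
  obtain ⟨X, Y, εX, ε, u, hu, hu1, -, hdisj, -, hY, htX, hX, hε, hYd, -, hrel, hYsum, -⟩ :=
    principal_block_prime_order_data hM hodd P hP e he.symm
  have hp3 : 3 ≤ p := by have := hp.out.two_le; omega
  have hordu : orderOf u = p := orderOf_of_mem_prime hP hu hu1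
  have hval : ∀ χ ∈ X, (χ : G → ℂ) u = (εX χ : ℂ) := fun χ hχ => by
    have h := (hX χ hχ).2.2 u hu hu1 1 (one_mem _) (by rw [orderOf_one, Nat.dvd_one]; omega)
    rwa [mul_one] at h
  have hdvd : ∀ χ ∈ X, charDegree (χ : G → ℂ) ∣ e * (1 + n * p) := fun χ hχ => by
    have h := degree_dvd_of_value χ (hX χ hχ).1 (hval χ hχ)
    rwa [index_centralizer P hP hu hu1, ← he, hn] at h
  -- a character of degree `p - 1`
  obtain ⟨θ, hθ, hθε, hθd⟩ : ∃ θ ∈ X, εX θ = -1 ∧ charDegree (θ : G → ℂ) = p - 1 := by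
    by_contra hcon
    push Not at hcon
    have hterm : ∀ χ ∈ X.erase (trivIrr G),
        ((1 : ℤ) + n * p) ∣ εX χ * (charDegree (χ : G → ℂ) : ℤ) := by
      intro χ hχ
      obtain ⟨hne, hχX⟩ := Finset.mem_erase.1 hχ
      obtain ⟨h1, h2, -⟩ := hX χ hχX
      rcases h1 with h1 | h1
      · rw [h1] at h2
        rcases plus_degree hp.out.two_le hF hed (hdvd χ hχX) h2 with h | h
        · exact absurd (eq_trivIrr_of_degree_one hperf χ h) hne
        · rw [h]; push_cast; exact dvd_mul_left _ _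
      · rw [h1] at h2
        rcases minus_degree hp.out.two_le hF hed (hdvd χ hχX) h2 with h | h
        · exact absurd h (hcon χ hχX h1)
        · rw [h]; push_cast; exact Dvd.dvd.mul_left (dvd_mul_left _ _) _
    obtain ⟨K, hK⟩ := Finset.dvd_sum hterm
    obtain ⟨θ, hθ⟩ : Y.Nonempty := Finset.card_pos.1 (by
      rw [hY]; exact Nat.div_pos (Nat.le_of_dvd (by omega) hed) (by omega))
    have ht1 : εX (trivIrr G) = 1 := by
      have h := hval _ htX
      rw [trivIrr_apply] at h
      exact_mod_cast h.symm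
    set y := charDegree (θ : G → ℂ) with hy
    have hr : (ε : ℤ) * y = 1 + (1 + (n : ℤ) * p) * K := by
      have h := hrel θ hθ 1 (by rw [orderOf_one, Nat.dvd_one]; omega)
      simp only [← charDegree_eq] at h
      have h' : ε * (charDegree (θ : G → ℂ) : ℤ) =
          ∑ χ ∈ X, εX χ * (charDegree (χ : G → ℂ) : ℤ) := by exact_mod_cast h
      rw [← Finset.add_sum_erase _ _ htX, hK, ht1, one_mul] at h'
      rw [hy, h']
      congr 1
      have : charDegree ((trivIrr G : IrrCharacter G) : G → ℂ) = 1 :=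
        Nat.cast_injective (R := ℂ) (by rw [charDegree_eq, trivIrr_apply, Nat.cast_one])
      rw [this, Nat.cast_one]
    have hye : (y : ℤ) ∣ (e : ℤ) := by
      have h1 : (y : ℤ) ∣ (e : ℤ) * (1 + n * p) := by
        have := degree_dvd_of_sum_sylow P hP he.symm hu hu1 θ hε (hYsum θ hθ)
        rw [hn] at this
        exact_mod_cast this
      have h2 : (e : ℤ) = (y : ℤ) * (ε * e) + (e : ℤ) * (1 + n * p) * (-K) := by
        linear_combination (-(e : ℤ)) * hr
      rw [h2]
      exact dvd_add (dvd_mul_right _ _) (h1.mul_right _)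
    have hyle : y ≤ p - 1 := (Nat.le_of_dvd (by omega) (Int.natCast_dvd_natCast.1 hye)).trans
      (Nat.le_of_dvd (by omega) hed)
    have hy1 : 1 ≤ y := charDegree_pos θ
    have hK0 : K = 0 := by
      by_contra hne
      have hbig : (p : ℤ) + 1 ≤ 1 + (n : ℤ) * p := by
        have : (1 : ℤ) ≤ n := by exact_mod_cast hn0
        nlinarith
      have hyp : (y : ℤ) ≤ (p : ℤ) - 1 := by omega
      rcases lt_or_gt_of_ne hne with hneg | hpos
      · have : (1 + (n : ℤ) * p) * K ≤ -(1 + (n : ℤ) * p) := by nlinarith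
        rcases hε with rfl | rfl <;> omega
      · have : (1 + (n : ℤ) * p) ≤ (1 + (n : ℤ) * p) * K := by nlinarith
        rcases hε with rfl | rfl <;> omega
    rw [hK0, mul_zero, add_zero] at hr
    have hy1' : y = 1 := by rcases hε with rfl | rfl <;> omega
    exact Finset.disjoint_left.1 hdisj htX (eq_trivIrr_of_degree_one hperf θ hy1' ▸ hθ)
  -- it is faithful
  have hχ := irr_isCharacter θ
  have hθ1 : (θ : G → ℂ) 1 = (p : ℂ) - 1 := by
    rw [← charDegree_eq θ, hθd, Nat.cast_sub (by omega), Nat.cast_one]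
  have hfaith : charKernel hχ = ⊥ := by
    rw [← le_bot_iff, ← hO]
    refine Components.le_pPrimeCore (charKernel_normal hχ) (Nat.coprime_comm.1
      (hp.out.coprime_iff_not_dvd.2 fun hd => ?_))
    obtain ⟨x, hx⟩ := exists_prime_orderOf_dvd_card' (G := charKernel hχ) p hd
    have hxo : orderOf (x : G) = p := by rw [Subgroup.orderOf_coe, hx]
    have hxg : IsPGroup p (Subgroup.zpowers (x : G)) :=
      IsPGroup.of_card (n := 1) (by rw [Nat.card_zpowers, hxo, pow_one])
    obtain ⟨Q, hQ⟩ := hxg.exists_le_sylow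
    obtain ⟨g, hg⟩ := MulAction.exists_smul_eq G Q P
    have hxP : g * (x : G) * g⁻¹ ∈ (P : Subgroup G) := by
      rw [← hg, Sylow.smul_def]
      show MulAut.conj g • (x : G) ∈ MulAut.conj g • (Q : Subgroup G)
      exact Subgroup.smul_mem_pointwise_smul _ _ _ (hQ (Subgroup.mem_zpowers _))
    have hx1 : g * (x : G) * g⁻¹ ≠ 1 := fun h => by
      rw [conj_eq_one_iff] at h
      rw [h, orderOf_one] at hxo
      omega
    have hv := (hX θ hθ).2.2 _ hxP hx1 1 (one_mem _) (by rw [orderOf_one, Nat.dvd_one]; omega)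
    rw [mul_one, IsCharacter.conj_apply hχ, (mem_charKernel hχ).1 x.2, hθ1, hθε] at hv
    have : (p : ℂ) = 0 := by push_cast at hv; linear_combination hv
    exact hp.out.ne_zero (Nat.cast_eq_zero.1 this)
  refine le_antisymm (fun c hc => ?_) fun x hx => Subgroup.mem_centralizer_iff.2 fun y hy => by
    obtain ⟨i, rfl⟩ := exists_upow_eq hP hu hu1 hx
    obtain ⟨j, rfl⟩ := exists_upow_eq hP hu hu1 hy
    rw [← upow_add (hordu ▸ pow_orderOf_eq_one u), ← upow_add (hordu ▸ pow_orderOf_eq_one u),
      add_comm]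
  obtain ⟨hmem, -, hdec⟩ := regular_core (P : Subgroup G) hP (sq_not_dvd P hP) hu hu1
  obtain ⟨j, y, hy, rfl⟩ := hdec c hc
  obtain ⟨hyC, hyr⟩ := (hmem y).1 hy
  suffices y = 1 by rw [this, mul_one]; exact Subgroup.pow_mem _ hu _
  have hsum0 : ∀ g ∈ Subgroup.centralizer ((P : Subgroup G) : Set G), ¬ p ∣ orderOf g →
      ∑ i : ZMod p, (θ : G → ℂ) (cpow u i * g) = (θ : G → ℂ) g - ((p : ℂ) - 1) := by
    intro g hg hgr
    rw [← Finset.add_sum_erase _ _ (Finset.mem_univ (0 : ZMod p)), cpow_zero, one_mul,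
      Finset.sum_congr rfl fun i hi => (hX θ hθ).2.2 (cpow u i) (Subgroup.pow_mem _ hu _)
        (fun h => (Finset.mem_erase.1 hi).1 ((upow_eq_one_iff hordu i).1 h)) g hg hgr,
      Finset.sum_const, Finset.card_erase_of_mem (Finset.mem_univ _), Finset.card_univ, ZMod.card,
      hθε, nsmul_eq_mul, Nat.cast_sub (by omega)]
    push_cast
    ring
  have h0 := hsum0 1 (one_mem _) (by rw [orderOf_one, Nat.dvd_one]; omega)
  simp only [mul_one, hθ1, sub_self] at h0
  have h1 := hsum0 y hyC hyr
  rw [sum_translate_eq_zero hχ (hordu ▸ pow_orderOf_eq_one u) h0 y, eq_comm, sub_eq_zero] at h1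
  have : y ∈ charKernel hχ := (mem_charKernel hχ).2 (by rw [h1, hθ1])
  rwa [hfaith, Subgroup.mem_bot] at this

end Cfsg.Agent.Lib.BrauerPrime
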