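import Cfsg.Agent.Lib.BrauerPrime.Recognition
import Cfsg.Agent.Lib.Cores.PCore

/-!
# Brauer's theorem on perfect groups with a Sylow subgroup of prime order
-/

set_option autoImplicit false
set_option linter.unusedSectionVars false
set_option linter.style.haveILetI false

namespace Cfsg.Agent.Lib.BrauerPrime

open Cfsg Cfsg.Agent.Lib.Characters Cfsg.Agent.Lib.Blocks

universe u

variable {G : Type u} [Group G] [Finite G] {p : ℕ} [hp : Fact p.Prime]

/-- The two groups of Brauer's theorem, with their orders. -/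
def IsBrauerGroup (p : ℕ) (H : Type u) [Group H] : Prop :=
  (∃ (F : Type) (_ : Field F) (_ : Fintype F), Fintype.card F = p ∧ 5 ≤ p ∧
    2 * Nat.card H = p * (p ^ 2 - 1) ∧
    Nonempty (H ≃* Matrix.ProjectiveSpecialLinearGroup (Fin 2) F)) ∨
  (∃ (m : ℕ) (F : Type) (_ : Field F) (_ : Fintype F), Fintype.card F = 2 ^ m ∧ p = 2 ^ m + 1 ∧
    5 ≤ p ∧ Nat.card H = p * (p - 1) * (p - 2) ∧
    Nonempty (H ≃* Matrix.SpecialLinearGroup (Fin 2) F) ∧
    Nonempty (H ≃* Matrix.ProjectiveSpecialLinearGroup (Fin 2) F))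

/-- Brauer's theorem when the `p'`-core is trivial. -/
theorem isBrauerGroup (hperf : commutator G = ⊤) (P : Sylow p G) (hP : Nat.card P = p) {n : ℕ}
    (hn : Nat.card (Sylow p G) = 1 + n * p) (hF : ¬ HasForm p n) (hO : pPrimeCore p G = ⊥) :
    IsBrauerGroup p G := by
  classical
  haveI := Fintype.ofFinite G
  have hC := centralizer_eq hperf P hP hn hF hO
  haveI := isSimpleGroup hperf P hP hC hO
  rcases shape hperf P hP hn hF hC (fun χ hχ g hg => faithful χ hχ g hg) with
    ⟨h5, hn1, hcard⟩ | ⟨θ, z, D⟩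
  · left
    rw [hn1, one_mul, add_comm] at hn
    exact ⟨ZMod p, inferInstance, inferInstance, ZMod.card p, h5, hcard,
      SylowCounting.iso_psl_prime h5 hcard hn (ZMod.card p)⟩
  · right
    obtain ⟨m, F, i1, i2, hF, hp2, ⟨φ⟩⟩ := D.iso hperf P hP
    letI := i1
    letI := i2
    haveI : CharP F 2 := by
      obtain ⟨c, hc⟩ := CharP.exists F
      haveI := hc
      obtain ⟨k, hcp, hk⟩ := FiniteField.card F c
      rw [hF] at hk
      have h2 : c ∣ 2 ^ m := hk ▸ dvd_pow_self c k.2.ne'
      rw [(Nat.prime_dvd_prime_iff_eq hcp Nat.prime_two).1 (hcp.dvd_of_dvd_pow h2)] at hc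
      exact hc
    obtain ⟨σ⟩ := nonempty_sl_equiv_psl F
    exact ⟨m, F, i1, i2, hF, hp2, D.five_le, D.card_G, ⟨φ⟩, ⟨φ.trans σ.symm⟩⟩

theorem IsBrauerGroup.five_le {H : Type u} [Group H] (h : IsBrauerGroup p H) : 5 ≤ p := by
  rcases h with ⟨_, _, _, _, h5, -⟩ | ⟨_, _, _, _, _, _, h5, -⟩ <;> exact h5

/-- The number of Sylow subgroups in a quotient by a normal `p'`-subgroup. -/
theorem card_sylow_quotient (P : Sylow p G) (H : Subgroup G) [H.Normal] :
    ∃ Q : Sylow p (G ⧸ H), (Q : Subgroup (G ⧸ H)) = (P : Subgroup G).map (QuotientGroup.mk' H) ∧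
      ∃ k : ℕ, Nat.card (Sylow p G) = Nat.card (Sylow p (G ⧸ H)) * k ∧
        (k = 1 → H ≤ Subgroup.normalizer ((P : Subgroup G) : Set G)) := by
  haveI := Fintype.ofFinite G
  set Q := Sylow.mapSurjective (QuotientGroup.mk'_surjective H) P with hQ
  have hQc : (Q : Subgroup (G ⧸ H)) = (P : Subgroup G).map (QuotientGroup.mk' H) :=
    Sylow.coe_mapSurjective _ P
  set N := Subgroup.normalizer ((P : Subgroup G) : Set G) with hN
  set M := (Subgroup.normalizer ((Q : Subgroup (G ⧸ H)) : Set (G ⧸ H))).comap (QuotientGroup.mk' H) with hM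
  have hNM : N ≤ M := by
    intro g hg
    rw [hM, Subgroup.mem_comap, hQc]
    exact Subgroup.le_normalizer_map _ (Subgroup.mem_map_of_mem _ hg)
  refine ⟨Q, hQc, N.relIndex M, ?_, fun hk => ?_⟩
  · rw [P.card_eq_index_normalizer, Q.card_eq_index_normalizer,
      ← Subgroup.index_comap_of_surjective _ (QuotientGroup.mk'_surjective H), mul_comm]
    exact (Subgroup.relIndex_mul_index hNM).symm
  · intro g hg
    have hgM : g ∈ M := by
      rw [hM, Subgroup.mem_comap, show QuotientGroup.mk' H g = 1 from (QuotientGroup.eq_one_iff g).2 hg]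
      exact one_mem _
    exact Subgroup.relIndex_eq_one.1 hk hgM

/-- **Brauer's theorem**: a perfect group with a Sylow subgroup of order `p` and `1 + n p` Sylow
subgroups, `n` not of the exceptional form. -/
theorem main (hperf : commutator G = ⊤) (P : Sylow p G) (hP : Nat.card P = p) {n : ℕ}
    (hn : Nat.card (Sylow p G) = 1 + n * p) (hF : ¬ HasForm p n) :
    pPrimeCore p G ≤ Subgroup.normalizer ((P : Subgroup G) : Set G) ∧
      IsBrauerGroup p (G ⧸ pPrimeCore p G) := by
  classical
  haveI := Fintype.ofFinite G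
  set H := pPrimeCore p G with hH
  obtain ⟨Q, hQ, k, hk, hk1⟩ := card_sylow_quotient P H
  have hperf' : commutator (G ⧸ H) = ⊤ := by
    rw [commutator_def, ← Subgroup.map_top_of_surjective _ (QuotientGroup.mk'_surjective H),
      ← Subgroup.map_commutator, ← commutator_def, hperf]
  have hPH : Disjoint (P : Subgroup G) H := by
    rw [disjoint_iff]
    refine Subgroup.eq_bot_of_card_eq _ (Nat.eq_one_of_dvd_coprimes (Cores.pPrimeCore_coprime p G).symm
      ?_ (Subgroup.card_dvd_of_le inf_le_right))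
    exact (Subgroup.card_dvd_of_le inf_le_left).trans (show Nat.card (P : Subgroup G) = p from hP).dvd
  have hQcard : Nat.card Q = p := by
    have h1 : Nat.card ((P : Subgroup G).map (QuotientGroup.mk' H)) = p := by
      let f : (P : Subgroup G) →* (P : Subgroup G).map (QuotientGroup.mk' H) :=
        (QuotientGroup.mk' H).subgroupMap _
      have hf : Function.Bijective f := by
        refine ⟨(injective_iff_map_eq_one f).2 fun x hx => ?_, MonoidHom.subgroupMap_surjective _ _⟩
        have hxH : (x : G) ∈ H := (QuotientGroup.eq_one_iff _).1 (congrArg Subtype.val hx)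
        exact Subtype.ext (Subgroup.mem_bot.1 (disjoint_iff.1 hPH ▸ Subgroup.mem_inf.2 ⟨x.2, hxH⟩))
      rw [← Nat.card_eq_of_bijective f hf]
      exact hP
    rw [← hQ] at h1
    exact h1
  obtain ⟨i, hi⟩ : ∃ i, Nat.card (Sylow p (G ⧸ H)) = 1 + i * p := by
    refine ⟨Nat.card (Sylow p (G ⧸ H)) / p, ?_⟩
    have h1 := card_sylow_modEq_one p (G ⧸ H)
    have h2 := Nat.div_add_mod (Nat.card (Sylow p (G ⧸ H))) p
    rw [h1, Nat.one_mod_eq_one.2 (by have := hp.out.two_le; omega), mul_comm] at h2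
    omega
  have hi0 := sylow_param_pos hperf' Q hQcard hi
  have hk' : k = 1 := by
    by_contra hne
    obtain ⟨j, hj⟩ : ∃ j, k = 1 + j * p := by
      refine ⟨k / p, ?_⟩
      have h1 : k % p = 1 := by
        have h2 := congrArg (· % p) hk
        simp only [hn, hi, Nat.mul_mod (1 + i * p) k, Nat.add_mul_mod_self_right,
          Nat.one_mod_eq_one.2 (show p ≠ 1 from hp.out.ne_one), one_mul, Nat.mod_mod] at h2
        exact h2.symm
      have h2 := Nat.div_add_mod k p
      rw [h1, mul_comm] at h2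
      omega
    have hj0 : 0 < j := by
      rcases Nat.eq_zero_or_pos j with h | h
      · rw [h, zero_mul, add_zero] at hj; exact absurd hj hne
      · exact h
    exact hF (hasForm_mul hp.out.pos hi0 hj0 (by rw [← hn, hk, hi, hj]))
  subst hk'
  rw [mul_one] at hk
  refine ⟨hk1 rfl, isBrauerGroup hperf' Q hQcard (hk.symm.trans hn) hF ?_⟩
  exact Cores.pPrimeCore_quotient_pPrimeCore p G

end Cfsg.Agent.Lib.BrauerPrime

namespace Cfsg.Agent.Lib.BrauerPrime

open Cfsg

universe v

variable {G : Type v} [Group G] [Finite G] {p : ℕ} [hp : Fact p.Prime]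

theorem IsBrauerGroup.congr {H K : Type v} [Group H] [Group K] (φ : H ≃* K) (h : IsBrauerGroup p H) :
    IsBrauerGroup p K := by
  rcases h with ⟨F, i1, i2, hF, h5, hc, ⟨e⟩⟩ | ⟨m, F, i1, i2, hF, hm, h5, hc, ⟨e⟩, ⟨e'⟩⟩
  · exact Or.inl ⟨F, i1, i2, hF, h5, by rw [← Nat.card_congr φ.toEquiv]; exact hc, ⟨φ.symm.trans e⟩⟩
  · exact Or.inr ⟨m, F, i1, i2, hF, hm, h5, by rw [← Nat.card_congr φ.toEquiv]; exact hc,
      ⟨φ.symm.trans e⟩, ⟨φ.symm.trans e'⟩⟩

/-- A perfect group of order less than `p ^ 3`. -/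
theorem of_lt_cube (hperf : commutator G = ⊤) (hdvd : p ∣ Nat.card G) (hbig : Nat.card G < p ^ 3)
    (P : Sylow p G) (hnn : ¬ (P : Subgroup G).Normal)
    (h2 : ∀ N : Subgroup G, N.Normal → Nat.card N ≠ 2) : IsBrauerGroup p G := by
  haveI := Fintype.ofFinite G
  have hp2 := hp.out.two_le
  obtain ⟨i, hi⟩ : ∃ i, Nat.card (Sylow p G) = 1 + i * p := by
    refine ⟨Nat.card (Sylow p G) / p, ?_⟩
    have h1 := card_sylow_modEq_one p G
    have h2 := Nat.div_add_mod (Nat.card (Sylow p G)) p
    rw [h1, Nat.one_mod_eq_one.2 (by omega), mul_comm] at h2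
    omega
  have hi0 : 0 < i := by
    rcases Nat.eq_zero_or_pos i with h | h
    · exfalso
      rw [h, zero_mul, add_zero, P.card_eq_index_normalizer, Subgroup.index_eq_one] at hi
      exact hnn (Subgroup.normalizer_eq_top_iff.1 hi)
    · exact h
  set N := Subgroup.normalizer ((P : Subgroup G) : Set G) with hN
  have hGN : Nat.card N * (1 + i * p) = Nat.card G := by
    rw [← hi, P.card_eq_index_normalizer]
    exact Subgroup.card_mul_index _
  have hPN : Nat.card (P : Subgroup G) ∣ Nat.card N := Subgroup.card_dvd_of_le Subgroup.le_normalizer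
  have hip : p ≤ i * p := Nat.le_mul_of_pos_left p hi0
  have hP : Nat.card P = p := by
    have hcard := P.card_eq_multiplicity
    have hpos : 0 < (Nat.card G).factorization p :=
      hp.out.factorization_pos_of_dvd Nat.card_pos.ne' hdvd
    rcases Nat.lt_or_ge ((Nat.card G).factorization p) 2 with h | h
    · rw [show (Nat.card G).factorization p = 1 by omega, pow_one] at hcard
      exact hcard
    · exfalso
      have h1 : p ^ 2 ≤ Nat.card N :=
        le_trans (Nat.pow_le_pow_right hp.out.pos h) (hcard ▸ Nat.le_of_dvd Nat.card_pos hPN)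
      have h3 : p ^ 2 * (p + 1) ≤ Nat.card G := hGN ▸ Nat.mul_le_mul h1 (by omega)
      nlinarith
  obtain ⟨e, he⟩ : ∃ e, (Subgroup.centralizer ((P : Subgroup G) : Set G)).relIndex
    (Subgroup.normalizer ((P : Subgroup G) : Set G)) = e := ⟨_, rfl⟩
  obtain ⟨he2, -, -⟩ := index_facts hperf P hP he
  have hNle : 2 * p ≤ Nat.card N := by
    set C := Subgroup.centralizer ((P : Subgroup G) : Set G) with hC
    have h1 : C.relIndex N * Nat.card C = Nat.card N := by
      rw [Subgroup.relIndex, ← Nat.card_congr (Subgroup.subgroupOfEquivOfLe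
        (Subgroup.centralizer_le_normalizer _)).toEquiv]
      exact Subgroup.index_mul_card _
    have h2 : (P : Subgroup G) ≤ C := fun x hx => Subgroup.mem_centralizer_iff.2 fun y hy => by
      haveI : IsCyclic (P : Subgroup G) := isCyclic_of_prime_card hP
      letI := IsCyclic.commGroup (α := (P : Subgroup G))
      exact congrArg Subtype.val (mul_comm (⟨y, hy⟩ : (P : Subgroup G)) ⟨x, hx⟩)
    have h3 : p ≤ Nat.card C := (show Nat.card (P : Subgroup G) = p from hP) ▸
      Nat.le_of_dvd Nat.card_pos (Subgroup.card_dvd_of_le h2)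
    rw [← h1, he]
    exact Nat.mul_le_mul he2 h3
  have hF : ¬ HasForm p i := fun hf => by
    have h1 := hf.le
    have h3 : 2 * p * (1 + i * p) ≤ Nat.card G := hGN ▸ Nat.mul_le_mul_right _ hNle
    nlinarith
  obtain ⟨-, hB⟩ := main hperf P hP hi hF
  set H := pPrimeCore p G with hH
  have hcH : Nat.card G = Nat.card (G ⧸ H) * Nat.card H := Subgroup.card_eq_card_quotient_mul_card_subgroup H
  have hle : Nat.card H ≤ 2 := by
    by_contra hcon
    have hH3 : 3 ≤ Nat.card H := by omega
    have h3 : Nat.card (G ⧸ H) * 3 ≤ Nat.card G := hcH ▸ Nat.mul_le_mul_left _ hH3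
    rcases hB with ⟨_, _, _, _, h5, hc, -⟩ | ⟨_, _, _, _, _, _, h5, hc, -⟩
    · have h4 : p * (p ^ 2 - 1) * 3 < 2 * p ^ 3 := by
        rw [← hc]; linarith
      have h6 : 25 ≤ p ^ 2 := by nlinarith
      have h7 : 2 * p ^ 2 ≤ (p ^ 2 - 1) * 3 := by omega
      have h8 : p * (2 * p ^ 2) ≤ p * ((p ^ 2 - 1) * 3) := Nat.mul_le_mul_left p h7
      have h9 : p * (2 * p ^ 2) = 2 * p ^ 3 := by ring
      rw [← mul_assoc p (p ^ 2 - 1) 3] at h8
      omega
    · obtain ⟨a, rfl⟩ : ∃ a, p = a + 5 := ⟨p - 5, by omega⟩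
      rw [hc, show a + 5 - 1 = a + 4 by omega, show a + 5 - 2 = a + 3 by omega] at h3
      nlinarith
  have hH1 : H = ⊥ := by
    refine Subgroup.eq_bot_of_card_eq _ ?_
    have := h2 H inferInstance
    have := (Nat.card_pos : 0 < Nat.card H)
    omega
  exact hB.congr ((QuotientGroup.quotientMulEquivOfEq hH1).trans QuotientGroup.quotientBot)

end Cfsg.Agent.Lib.BrauerPrime
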