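import Cfsg.Agent.Lib.BrauerPrime.Shape
import Cfsg.Agent.Lib.SylowCounting.PSLRecognition
import Cfsg.Agent.Lib.BlockHeights.Galois
import Cfsg.Agent.Lib.InvChar.GaloisChar
import Cfsg.Agent.S1230

/-!
# Recognition of `PSL(2, p)` and `SL(2, p - 1)`
-/

set_option autoImplicit false
set_option linter.unusedSectionVars false
set_option linter.style.haveILetI false

namespace Cfsg.Agent.Lib.BrauerPrime

open Cfsg Cfsg.Agent.Lib.Characters Cfsg.Agent.Lib.Blocks Cfsg.Agent.Lib.BlockHeights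
open scoped ComplexConjugate commutatorElement

universe u

variable {G : Type u} [Group G] [Fintype G] {p : ℕ} [hp : Fact p.Prime]

/-- A perfect group with self-centralizing Sylow subgroup of order `p` and trivial `p'`-core is
simple. -/
theorem eq_bot_or_eq_top (hperf : commutator G = ⊤) (P : Sylow p G) (hP : Nat.card P = p)
    (hC : Subgroup.centralizer ((P : Subgroup G) : Set G) = (P : Subgroup G))
    (hO : pPrimeCore p G = ⊥) (N : Subgroup G) [hN : N.Normal] : N = ⊥ ∨ N = ⊤ := by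
  by_cases hd : p ∣ Nat.card N
  swap
  · left
    rw [← le_bot_iff, ← hO]
    exact Components.le_pPrimeCore hN (Nat.coprime_comm.1 (hp.out.coprime_iff_not_dvd.2 hd))
  right
  obtain ⟨x, hx⟩ := exists_prime_orderOf_dvd_card' (G := N) p hd
  have hxo : orderOf (x : G) = p := by rw [Subgroup.orderOf_coe, hx]
  have hxg : IsPGroup p (Subgroup.zpowers (x : G)) :=
    IsPGroup.of_card (n := 1) (by rw [Nat.card_zpowers, hxo, pow_one])
  obtain ⟨Q, hQ⟩ := hxg.exists_le_sylow
  have hQN : (Q : Subgroup G) ≤ N := by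
    have h1 : Subgroup.zpowers (x : G) = (Q : Subgroup G) :=
      Subgroup.eq_of_le_of_card_ge hQ (by
        rw [Nat.card_zpowers, hxo, Sylow.card_eq_multiplicity Q, ← Sylow.card_eq_multiplicity P]
        exact hP.le)
    rw [← h1]
    exact Subgroup.zpowers_le.2 x.2
  have hPN : (P : Subgroup G) ≤ N := by
    obtain ⟨g, hg⟩ := MulAction.exists_smul_eq G Q P
    intro y hy
    rw [← hg, Sylow.smul_def] at hy
    obtain ⟨z, hz, rfl⟩ := Subgroup.mem_map.1 hy
    exact hN.conj_mem z (hQN hz) g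
  have hfr : Subgroup.normalizer ((P : Subgroup G) : Set G) ⊔ N = ⊤ :=
    Sylow.normalizer_sup_eq_top' P hPN
  obtain ⟨⟨u, hu⟩, hu1'⟩ : ∃ x : (P : Subgroup G), x ≠ 1 := by
    haveI : Nontrivial (P : Subgroup G) :=
      Finite.one_lt_card_iff_nontrivial.1 ((show Nat.card (P : Subgroup G) = p from hP).symm ▸ hp.out.one_lt)
    exact exists_ne 1
  have hu1 : u ≠ 1 := fun h => hu1' (Subtype.ext h)
  obtain ⟨t, r, -, -, -, -, -, hgen⟩ :=
    exists_normalizer_generator (P : Subgroup G) hP (sq_not_dvd P hP) hu hu1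
  rw [← top_le_iff, ← hperf, commutator_def, Subgroup.commutator_le]
  have hpow : ∀ g : G, ∃ s : ℕ, (QuotientGroup.mk' N g) = QuotientGroup.mk' N t ^ s := by
    intro g
    have hg : g ∈ Subgroup.normalizer ((P : Subgroup G) : Set G) ⊔ N := hfr ▸ Subgroup.mem_top g
    obtain ⟨a, ha, b, hb, rfl⟩ := Subgroup.mem_sup_of_normal_right.1 hg
    obtain ⟨s, hs⟩ := hgen a ha
    rw [hC] at hs
    refine ⟨s, ?_⟩
    have h2 : QuotientGroup.mk' N ((t ^ s)⁻¹ * a) = 1 := (QuotientGroup.eq_one_iff _).2 (hPN hs)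
    have h3 : QuotientGroup.mk' N b = 1 := (QuotientGroup.eq_one_iff _).2 hb
    rw [map_mul, map_inv, map_pow, inv_mul_eq_one] at h2
    rw [map_mul, h3, mul_one, ← h2]
  intro a _ b _
  refine (QuotientGroup.eq_one_iff _).1 ?_
  obtain ⟨s, hs⟩ := hpow a
  obtain ⟨s', hs'⟩ := hpow b
  show QuotientGroup.mk' N ⁅a, b⁆ = 1
  rw [map_commutatorElement, hs, hs', commutatorElement_eq_one_iff_commute]
  exact Commute.pow_pow_self _ _ _

theorem isSimpleGroup (hperf : commutator G = ⊤) (P : Sylow p G) (hP : Nat.card P = p)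
    (hC : Subgroup.centralizer ((P : Subgroup G) : Set G) = (P : Subgroup G))
    (hO : pPrimeCore p G = ⊥) : IsSimpleGroup G := by
  haveI : Nontrivial G := by
    refine Finite.one_lt_card_iff_nontrivial.1 (lt_of_lt_of_le hp.out.one_lt ?_)
    rw [← hP]
    exact Subgroup.card_le_card_group _
  exact ⟨fun N hN => @eq_bot_or_eq_top _ _ _ _ _ hperf P hP hC hO N hN⟩

theorem faithful [IsSimpleGroup G] (χ : IrrCharacter G) (hχ : χ ≠ trivIrr G) (g : G)
    (hg : (χ : G → ℂ) g = (χ : G → ℂ) 1) : g = 1 := by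
  rcases IsSimpleGroup.eq_bot_or_eq_top_of_normal (charKernel (irr_isCharacter χ))
    (charKernel_normal _) with h | h
  · rw [← Subgroup.mem_bot, ← h]; exact hg
  · exfalso
    have hall : ∀ x : G, (χ : G → ℂ) x = (χ : G → ℂ) 1 := fun x =>
      (mem_charKernel (irr_isCharacter χ)).1 (h ▸ Subgroup.mem_top x)
    have h0 : classInner (χ : G → ℂ) (fun _ => (1 : ℂ)) = 0 :=
      IsIrrCharacter.classInner_ne χ.2 (trivIrr G).2 (fun h' => hχ (Subtype.ext h'))
    simp only [classInner, hall, map_one, mul_one, Finset.sum_const, Finset.card_univ, nsmul_eq_mul] at h0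
    rw [← Nat.card_eq_fintype_card, inv_mul_cancel_left₀ natCard_ne_zero_complex, ← charDegree_eq χ,
      Nat.cast_eq_zero] at h0
    exact (charDegree_pos χ).ne' h0

/-- In characteristic two `SL(2, F) ≅ PSL(2, F)`. -/
theorem nonempty_sl_equiv_psl (F : Type) [Field F] [CharP F 2] :
    Nonempty (Matrix.ProjectiveSpecialLinearGroup (Fin 2) F ≃* Matrix.SpecialLinearGroup (Fin 2) F) := by
  have hc : Subgroup.center (Matrix.SpecialLinearGroup (Fin 2) F) = ⊥ := by
    rw [eq_bot_iff]
    intro A hA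
    obtain ⟨r, hr, hA'⟩ := Matrix.SpecialLinearGroup.mem_center_iff.1 hA
    rw [Fintype.card_fin] at hr
    have h1 : (r - 1) ^ 2 = 0 := by
      have h2 : (2 : F) = 0 := by exact_mod_cast CharP.cast_eq_zero F 2
      linear_combination hr + (1 - r) * h2
    rw [sq_eq_zero_iff, sub_eq_zero] at h1
    rw [Subgroup.mem_bot]
    apply Subtype.ext
    rw [← hA', h1, map_one]
    rfl
  exact ⟨(QuotientGroup.quotientMulEquivOfEq hc).trans QuotientGroup.quotientBot⟩

/-- The degree `p - 1` character of `EvenData` is rational. -/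
theorem EvenData.exists_int {θ : IrrCharacter G} {z : G} (D : EvenData p θ z) (g : G) :
    ∃ k : ℤ, (θ : G → ℂ) g = k := by
  classical
  haveI : NeZero (Nat.card G) := ⟨Nat.card_pos.ne'⟩
  have hv := irr_isCharacter θ
  have hfix : ∀ k : ℕ, Nat.Coprime k (Nat.card G) → (θ : G → ℂ) (g ^ k) = (θ : G → ℂ) g := by
    intro k hk
    have h : (⟨_, InvChar.isIrr_comp_pow θ.2 hk⟩ : IrrCharacter G) = θ := D.unique _ (by
      rw [← D.degree]
      show ⌊((θ : G → ℂ) (1 ^ k)).re⌋₊ = ⌊((θ : G → ℂ) 1).re⌋₊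
      rw [one_pow])
    exact congrFun (congrArg Subtype.val h) g
  obtain ⟨q, hq⟩ := BlockHeights.exists_rat_of_fixed (n := Nat.card G)
    (x := ⟨(θ : G → ℂ) g, apply_mem_cycField hv g⟩) (fun σ => by
      obtain ⟨k, hk, hσ⟩ := exists_galPow (G := G) σ
      rw [hσ _ hv g]
      exact Subtype.ext (hfix k hk))
  have hq' : (θ : G → ℂ) g = (q : ℂ) := hq
  obtain ⟨k, hk⟩ := exists_int_of_isIntegral_rat (q := q) (hq' ▸ IsCharacter.isIntegral hv g)
  exact ⟨k, by rw [hq', hk]; simp⟩

/-- **Recognition of `SL(2, 2 ^ m)`.** -/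
theorem EvenData.iso (hperf : commutator G = ⊤) (P : Sylow p G) (hP : Nat.card P = p)
    {θ : IrrCharacter G} {z : G} (D : EvenData p θ z) :
    ∃ (m : ℕ) (F : Type) (_ : Field F) (_ : Fintype F), Fintype.card F = 2 ^ m ∧ p = 2 ^ m + 1 ∧
      Nonempty (G ≃* Matrix.SpecialLinearGroup (Fin 2) F) := by
  classical
  haveI := Fintype.ofFinite (IrrCharacter G)
  have hcount := D.card_sylow
  obtain ⟨q, rfl⟩ : ∃ q, p = q + 1 := ⟨p - 1, by have := D.five_le; omega⟩
  have h5 := D.five_le
  simp only [Nat.add_sub_cancel, show q + 1 - 2 = q - 1 by omega] at hcount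
  have hG : Nat.card G = (q + 1) * q * (q - 1) := by
    rw [D.card_G, Nat.add_sub_cancel, show q + 1 - 2 = q - 1 by omega]
  choose v hv using D.exists_int
  -- the counts
  set U := (Finset.univ : Finset G).filter fun g => q + 1 ∣ orderOf g with hU
  set R := ((Finset.univ : Finset G).filter fun g => ¬ q + 1 ∣ orderOf g).erase 1 with hR
  have hUcard : U.card = Nat.card (Sylow (q + 1) G) * q := by
    have h := SylowCounting.card_orderOf_eq_prime (G := G) (p := q + 1) (fun Q => by
      rw [Sylow.card_eq_multiplicity Q, ← Sylow.card_eq_multiplicity P]; exact hP)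
    rw [Nat.add_sub_cancel] at h
    rw [← h, Nat.card_eq_fintype_card, Fintype.card_subtype, hU]
    congr 1
    exact Finset.filter_congr fun g _ => ⟨D.singular g, fun h' => h' ▸ dvd_rfl⟩
  have hvU : ∀ g ∈ U, v g = -1 := fun g hg => by
    have h := D.value g (D.singular g (Finset.mem_filter.1 hg).2)
    rw [hv] at h
    exact_mod_cast h
  have h1R : (1 : G) ∈ (Finset.univ : Finset G).filter fun g => ¬ q + 1 ∣ orderOf g :=
    Finset.mem_filter.2 ⟨Finset.mem_univ _, by rw [orderOf_one, Nat.dvd_one]; omega⟩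
  have hsplit : ∀ φ : G → ℤ, ∑ g, φ g = φ 1 + ∑ g ∈ R, φ g + ∑ g ∈ U, φ g := fun φ => by
    rw [hR, Finset.add_sum_erase _ _ h1R, hU, add_comm, Finset.sum_filter_add_sum_filter_not]
  have hv1 : v 1 = q := by
    have h : ((charDegree (θ : G → ℂ) : ℕ) : ℂ) = (v 1 : ℂ) := by rw [← hv, charDegree_eq]
    rw [D.degree, Nat.add_sub_cancel] at h
    exact_mod_cast h.symm
  have hS1 : ∑ g, v g = 0 := by
    have h := IsIrrCharacter.classInner_ne θ.2 (trivIrr G).2 (fun h' => by
      have := congrFun h' 1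
      rw [hv, hv1, trivIrr_apply] at this
      have : q = 1 := by exact_mod_cast this
      omega)
    simp only [classInner, hv, trivIrr_apply, map_one, mul_one, mul_eq_zero, inv_eq_zero] at h
    have h' := h.resolve_left natCard_ne_zero_complex
    exact_mod_cast h'
  have hS2 : ∑ g, v g ^ 2 = Nat.card G := by
    have h := IsIrrCharacter.classInner_self θ.2
    simp only [classInner, hv, map_intCast] at h
    rw [inv_mul_eq_one₀ natCard_ne_zero_complex] at h
    have h' : ((∑ g, v g ^ 2 : ℤ) : ℂ) = ((Nat.card G : ℤ) : ℂ) := by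
      push_cast
      rw [h]
      exact Finset.sum_congr rfl fun g _ => pow_two _
    exact_mod_cast h'
  rw [hsplit, hv1, Finset.sum_congr rfl hvU, Finset.sum_const, nsmul_eq_mul] at hS1
  rw [hsplit, hv1, Finset.sum_congr (rfl : U = U) (fun g hg => by rw [hvU g hg]), Finset.sum_const,
    nsmul_eq_mul] at hS2
  have hU2 : (U.card : ℤ) * 2 = q * q * (q - 1) := by
    have h1 : U.card * 2 = q * q * (q - 1) := by rw [hUcard, mul_right_comm, hcount]; ring
    have := congrArg (fun k : ℕ => (k : ℤ)) h1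
    push_cast [Nat.cast_sub (show 1 ≤ q by omega)] at this
    exact this
  have hGz : (Nat.card G : ℤ) = (q + 1) * q * (q - 1) := by
    rw [hG]; push_cast [Nat.cast_sub (show 1 ≤ q by omega)]; ring
  have hzero : ∀ g ∈ R, v g = 0 ∨ v g = 1 := by
    have h0 : ∑ g ∈ R, (v g ^ 2 - v g) = 0 := by
      rw [Finset.sum_sub_distrib]
      linear_combination hS2 - hS1 + hGz - hU2
    intro g hg
    have h := (Finset.sum_eq_zero_iff_of_nonneg fun g _ => by
      have := Int.le_self_sq (v g); linarith).1 h0 g hg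
    rw [pow_two, ← mul_sub_one, mul_eq_zero, sub_eq_zero] at h
    exact h
  -- the class of `z` consists of all zeros
  set Z := R.filter fun g => v g = 0 with hZ
  have hZcard : (Z.card : ℤ) = (q + 1) * (q - 1) := by
    have h1 : (R.card : ℤ) = Z.card + ∑ g ∈ R, v g := by
      rw [hZ, Finset.card_filter, Nat.cast_sum, ← Finset.sum_add_distrib, Finset.cast_card]
      refine Finset.sum_congr rfl fun g hg => ?_
      rcases hzero g hg with h | h <;> simp [h]
    have h2 := hsplit fun _ => (1 : ℤ)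
    simp only [Finset.sum_const, Finset.card_univ, nsmul_eq_mul, mul_one, ← Nat.card_eq_fintype_card] at h2
    linear_combination -hS1 - h1 - h2 + hGz - hU2
  have hmemZ : ∀ g : G, g ≠ 1 → ¬ q + 1 ∣ orderOf g → (θ : G → ℂ) g = 0 → g ∈ Z := fun g h1 h2 h3 => by
    refine Finset.mem_filter.2 ⟨Finset.mem_erase.2 ⟨h1, Finset.mem_filter.2 ⟨Finset.mem_univ _, h2⟩⟩, ?_⟩
    rw [hv] at h3
    exact_mod_cast h3
  have hclass : Nat.card {x : G // IsConj z x} = (q + 1) * (q - 1) := by
    have h := card_conj_mul_card_centralizer z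
    rw [D.card_centralizer, Nat.add_sub_cancel, hG, mul_right_comm] at h
    exact Nat.eq_of_mul_eq_mul_right (by omega) h
  have hZeq : ((Finset.univ : Finset G).filter fun x => IsConj z x) = Z := by
    refine Finset.eq_of_subset_of_card_le (fun x hx => ?_) (le_of_eq ?_)
    · have hx' := (Finset.mem_filter.1 hx).2
      have ho : orderOf x = 2 := (orderOf_eq_of_isConj hx').symm.trans D.order
      refine hmemZ x (fun h => by rw [h, orderOf_one] at ho; omega) (fun h => ?_)
        ((IsClassFunction.eq_of_isConj (irr_isClassFunction θ) hx').symm.trans D.value_z)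
      rw [ho] at h
      have := Nat.le_of_dvd two_pos h
      omega
    · rw [← Fintype.card_subtype, ← Nat.card_eq_fintype_card, hclass]
      zify [show 1 ≤ q by omega]
      exact hZcard
  -- the centralizer of `z` has exponent two
  set C := Subgroup.centralizer ({z} : Set G) with hC
  have hCcard : Nat.card C = q := by rw [D.card_centralizer, Nat.add_sub_cancel]
  have hreg : ∀ c : C, ¬ q + 1 ∣ orderOf (c : G) := fun c h => by
    have h1 := Nat.le_of_dvd Nat.card_pos (h.trans (Subgroup.orderOf_dvd_natCard _ c.2))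
    omega
  have hCz : ∀ c ∈ C, c ≠ 1 → IsConj z c := by
    haveI := Fintype.ofFinite C
    obtain ⟨n, ρ, -, hρ⟩ := θ.2
    have hinv : ∃ k : ℕ, (Fintype.card C : ℂ)⁻¹ * ∑ c : C, (θ : G → ℂ) c = k := by
      have h1 : IsCharacter C (fun c : C => (θ : G → ℂ) c) :=
        ⟨n, ρ.comp C.subtype, funext fun c => by rw [← hρ]; rfl⟩
      obtain ⟨k, hk⟩ := IsCharacter.exists_classInner_nat h1 (irr_isCharacter (trivIrr C))
      refine ⟨k, ?_⟩
      rw [← hk, classInner, Nat.card_eq_fintype_card]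
      simp
    obtain ⟨k, hk⟩ := hinv
    rw [← Nat.card_eq_fintype_card, hCcard,
      inv_mul_eq_iff_eq_mul₀ (Nat.cast_ne_zero.2 (by omega))] at hk
    simp only [hv] at hk
    have hk' : ∑ c : C, v c = q * k := by exact_mod_cast hk
    rw [← Finset.add_sum_erase _ _ (Finset.mem_univ (1 : C)), OneMemClass.coe_one, hv1] at hk'
    set S := (Finset.univ : Finset C).erase 1 with hS
    have hR' : ∀ c ∈ S, (c : G) ∈ R := fun c hc => Finset.mem_erase.2
      ⟨fun h => (Finset.mem_erase.1 hc).1 (Subtype.ext h), Finset.mem_filter.2 ⟨Finset.mem_univ _, hreg c⟩⟩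
    have hScard : S.card = q - 1 := by
      rw [hS, Finset.card_erase_of_mem (Finset.mem_univ _), Finset.card_univ, ← Nat.card_eq_fintype_card,
        hCcard]
    have hnn : ∀ c ∈ S, 0 ≤ v c ∧ v c ≤ 1 := fun c hc => by
      rcases hzero _ (hR' c hc) with h | h <;> omega
    have h0 : 0 ≤ ∑ c ∈ S, v c := Finset.sum_nonneg fun c hc => (hnn c hc).1
    have hlt : ∑ c ∈ S, v c ≤ (q : ℤ) - 1 := by
      have := Finset.sum_le_card_nsmul S (fun c => v c) 1 fun c hc => (hnn c hc).2
      rw [hScard, nsmul_eq_mul, mul_one, Nat.cast_sub (by omega), Nat.cast_one] at this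
      exact this
    have hk1 : (k : ℤ) = 1 := by
      have hq0 : (0 : ℤ) < q := by omega
      have h1 : (1 : ℤ) ≤ k := by
        by_contra h
        have : (k : ℤ) = 0 := by omega
        rw [this, mul_zero] at hk'
        omega
      nlinarith
    have hsum0 : ∑ c ∈ S, v c = 0 := by rw [hk1, mul_one] at hk'; linarith
    intro c hc hc1
    have hcS : (⟨c, hc⟩ : C) ∈ S :=
      Finset.mem_erase.2 ⟨fun h => hc1 (congrArg Subtype.val h), Finset.mem_univ _⟩
    have hvc := (Finset.sum_eq_zero_iff_of_nonneg fun c hc => (hnn c hc).1).1 hsum0 _ hcS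
    have : c ∈ Z := Finset.mem_filter.2 ⟨hR' _ hcS, hvc⟩
    rw [← hZeq] at this
    exact (Finset.mem_filter.1 this).2
  have hsq : ∀ c ∈ C, c ^ 2 = 1 := fun c hc => by
    by_cases hc1 : c = 1
    · rw [hc1, one_pow]
    · rw [← D.order, orderOf_eq_of_isConj (hCz c hc hc1), pow_orderOf_eq_one]
  -- a Sylow 2-subgroup
  haveI : Fact (Nat.Prime 2) := ⟨Nat.prime_two⟩
  have hC2 : IsPGroup 2 C := fun c => ⟨1, Subtype.ext (by rw [pow_one]; exact hsq c c.2)⟩
  obtain ⟨T, hT⟩ := hC2.exists_le_sylow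
  have hTC : (T : Subgroup G) = C := by
    refine (Subgroup.eq_of_le_of_card_ge hT ?_).symm
    rw [hCcard]
    obtain ⟨k, hk⟩ := hC2.exists_card_eq
    obtain ⟨l, hl⟩ := T.isPGroup'.exists_card_eq
    have hdvd : Nat.card (T : Subgroup G) ∣ (q + 1) * (q - 1) * q := by
      rw [show (q + 1) * (q - 1) * q = (q + 1) * q * (q - 1) by ring, ← hG]
      exact Subgroup.card_subgroup_dvd_card _
    have hq2 : 2 ∣ q := by
      rw [hCcard] at hk
      rcases k with _ | k
      · rw [pow_zero] at hk; omega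
      · exact hk ▸ dvd_pow_self 2 (by omega)
    have hcop : Nat.Coprime (Nat.card (T : Subgroup G)) ((q + 1) * (q - 1)) := by
      rw [hl]
      exact Nat.Coprime.pow_left _ ((Nat.prime_two.coprime_iff_not_dvd).2 fun h => by
        rcases Nat.prime_two.dvd_mul.1 h with h | h <;> omega)
    exact Nat.le_of_dvd (by omega) (hcop.dvd_of_dvd_mul_left hdvd)
  have hinvol : ∀ s : G, orderOf s = 2 → IsConj z s := by
    intro s hs
    have hs2 : IsPGroup 2 (Subgroup.zpowers s) :=
      IsPGroup.of_card (n := 1) (by rw [Nat.card_zpowers, hs, pow_one])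
    obtain ⟨Q, hQ⟩ := hs2.exists_le_sylow
    obtain ⟨g, hg⟩ := MulAction.exists_smul_eq G Q T
    have hmem : g * s * g⁻¹ ∈ C := by
      rw [← hTC, ← hg, Sylow.smul_def]
      exact Subgroup.mem_map_of_mem _ (hQ (Subgroup.mem_zpowers s))
    refine (hCz _ hmem fun h => ?_).trans (isConj_iff.2 ⟨g, rfl⟩).symm
    rw [conj_eq_one_iff] at h
    rw [h, orderOf_one] at hs
    omega
  have hnc : ¬ IsCyclic (T : Subgroup G) := by
    intro hcyc
    obtain ⟨g, hg⟩ := hcyc.exists_generator
    have h1 : orderOf g = Nat.card (T : Subgroup G) := orderOf_eq_card_of_forall_mem_zpowers hg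
    have h2 : orderOf (g : G) ∣ 2 := orderOf_dvd_of_pow_eq_one (hsq _ (hTC ▸ g.2))
    rw [Subgroup.orderOf_coe, h1, hTC, hCcard] at h2
    have := Nat.le_of_dvd two_pos h2
    omega
  have hnn : ¬ (T : Subgroup G).Normal := by
    intro hn
    have h1 : ∀ x : G, IsConj z x → x ∈ C := by
      intro x hx
      obtain ⟨g, rfl⟩ := isConj_iff.1 hx
      rw [← hTC]
      exact hn.conj_mem z (hTC ▸ Subgroup.mem_centralizer_singleton_iff.2 rfl) g
    have h2 : Nat.card {x : G // IsConj z x} ≤ Nat.card C :=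
      Nat.card_le_card_of_injective (fun x => (⟨x.1, h1 x.1 x.2⟩ : C))
        fun a b h => Subtype.ext (congrArg (fun c : C => (c : G)) h)
    rw [hclass, hCcard] at h2
    have : (q + 1) * 1 ≤ (q + 1) * (q - 1) := Nat.mul_le_mul_left _ (by omega)
    omega
  obtain ⟨F, i1, i2, hF, ⟨ψ⟩⟩ := Cfsg.Agent.S1230.result T hnc hnn fun s hs => by
    obtain ⟨g, hg⟩ := isConj_iff.1 (hinvol s hs)
    have hsub : ∀ c ∈ Subgroup.centralizer ({s} : Set G), g⁻¹ * c * g ∈ C := fun c hc => by
      rw [hC, Subgroup.mem_centralizer_singleton_iff]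
      rw [Subgroup.mem_centralizer_singleton_iff, ← hg] at hc
      calc g⁻¹ * c * g * z = g⁻¹ * (c * (g * z * g⁻¹)) * g := by group
        _ = g⁻¹ * ((g * z * g⁻¹) * c) * g := by rw [hc]
        _ = z * (g⁻¹ * c * g) := by group
    have hexp : ∀ c ∈ Subgroup.centralizer ({s} : Set G), c ^ 2 = 1 := fun c hc => by
      have h := hsq _ (hsub c hc)
      calc c ^ 2 = g * (g⁻¹ * c * g) ^ 2 * g⁻¹ := by simp [pow_two, mul_assoc]
        _ = 1 := by rw [h]; group
    refine ⟨⟨⟨fun a b => Subtype.ext ?_⟩⟩, hexp⟩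
    have e1 : ((a : G)) * a = 1 := by rw [← pow_two]; exact hexp _ a.2
    have e2 : ((b : G)) * b = 1 := by rw [← pow_two]; exact hexp _ b.2
    have e3 : ((a * b : Subgroup.centralizer ({s} : Set G)) : G) ^ 2 = 1 := hexp _ (a * b).2
    rw [pow_two, Subgroup.coe_mul] at e3
    show (a : G) * b = b * a
    calc (a : G) * b = ((a : G) * b)⁻¹ := (inv_eq_of_mul_eq_one_right e3).symm
      _ = (b : G)⁻¹ * (a : G)⁻¹ := _root_.mul_inv_rev _ _
      _ = (b : G) * (a : G) := by rw [inv_eq_of_mul_eq_one_right e1, inv_eq_of_mul_eq_one_right e2]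
  obtain ⟨k, hk⟩ := hC2.exists_card_eq
  rw [hCcard] at hk
  rw [hTC, hCcard] at hF
  letI := i1
  letI := i2
  haveI : CharP F 2 := by
    obtain ⟨c, hc⟩ := CharP.exists F
    haveI := hc
    obtain ⟨m, hcp, hm⟩ := FiniteField.card F c
    rw [hF, hk] at hm
    have h2 : c ∣ 2 ^ k := hm ▸ dvd_pow_self c m.2.ne'
    rw [(Nat.prime_dvd_prime_iff_eq hcp Nat.prime_two).1 (hcp.dvd_of_dvd_pow h2)] at hc
    exact hc
  obtain ⟨σ⟩ := nonempty_sl_equiv_psl F
  exact ⟨k, F, i1, i2, hF.trans hk, by omega, ⟨ψ.trans σ⟩⟩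

end Cfsg.Agent.Lib.BrauerPrime
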