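import Cfsg.Agent.Lib.BrauerPrime.Basic

/-!
# The normalizer of a self-centralizing Sylow subgroup of order `p` and its linear characters
-/

set_option autoImplicit false
set_option linter.unusedSectionVars false
set_option linter.style.haveILetI false

namespace Cfsg.Agent.Lib.BrauerPrime

open Cfsg Cfsg.Agent.Lib.Characters Cfsg.Agent.Lib.Blocks
open scoped ComplexConjugate

universe u

variable {G : Type u} [Group G] [Fintype G] {p : ℕ} [hp : Fact p.Prime]

theorem orderOf_eq_of_isConj {a b : G} (h : IsConj a b) : orderOf a = orderOf b := by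
  obtain ⟨c, rfl⟩ := isConj_iff.1 h
  rw [show c * a * c⁻¹ = MulAut.conj c a from rfl, MulEquiv.orderOf_eq]

/-- A self-centralizing Sylow subgroup `⟨u⟩` of order `p` with the complement `⟨t⟩` in its
normalizer. -/
structure Frame (p : ℕ) [Fact p.Prime] (P : Sylow p G) (u t : G) (r e : ℕ) : Prop where
  card_P : Nat.card P = p
  cent : Subgroup.centralizer ((P : Subgroup G) : Set G) = (P : Subgroup G)
  mem : u ∈ (P : Subgroup G)
  ne_one : u ≠ 1
  two_le : 2 ≤ e
  dvd : e ∣ p - 1
  prim : IsPrimitiveRoot (r : ZMod p) e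
  rel : (Subgroup.centralizer ((P : Subgroup G) : Set G)).relIndex
      (Subgroup.normalizer ((P : Subgroup G) : Set G)) = e
  conj_u : t * u * t⁻¹ = u ^ r
  order : orderOf t = e
  gen : ∀ g ∈ Subgroup.normalizer ((P : Subgroup G) : Set G), ∃ (i : ZMod p) (s : ℕ),
    g = t ^ s * upow u i

theorem exists_frame (P : Sylow p G) (hP : Nat.card P = p)
    (hC : Subgroup.centralizer ((P : Subgroup G) : Set G) = (P : Subgroup G)) {u : G}
    (hu : u ∈ (P : Subgroup G)) (hu1 : u ≠ 1) {e : ℕ} (he2 : 2 ≤ e) (hed : e ∣ p - 1)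
    (he : (Subgroup.centralizer ((P : Subgroup G) : Set G)).relIndex
      (Subgroup.normalizer ((P : Subgroup G) : Set G)) = e) :
    ∃ (t : G) (r : ℕ), Frame p P u t r e := by
  obtain ⟨t, r, -, hreg, htu, hprim, hte, hgen⟩ :=
    exists_normalizer_generator (P : Subgroup G) hP (sq_not_dvd P hP) hu hu1
  rw [he] at hprim hte
  have hte1 : t ^ e = 1 := by
    rw [hC] at hte
    have h1 : orderOf (t ^ e) ∣ p := hP ▸ Subgroup.orderOf_dvd_natCard _ hte
    have h2 : orderOf (t ^ e) ∣ orderOf t := orderOf_pow_dvd e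
    have h3 : Nat.Coprime p (orderOf t) := hp.out.coprime_iff_not_dvd.2 hreg
    exact orderOf_eq_one_iff.1 (Nat.eq_one_of_dvd_coprimes h3 h1 h2)
  have hord : orderOf t = e := by
    refine Nat.dvd_antisymm (orderOf_dvd_of_pow_eq_one hte1) (hprim.dvd_of_pow_eq_one _ ?_)
    have hiter : ∀ k : ℕ, t ^ k * u * (t ^ k)⁻¹ = u ^ (r ^ k) := by
      intro k
      induction k with
      | zero => simp
      | succ k ih =>
        rw [pow_succ t, show t ^ k * t * u * (t ^ k * t)⁻¹ = t ^ k * (t * u * t⁻¹) * (t ^ k)⁻¹ by group,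
          htu, ← conj_pow, ih, ← pow_mul, ← pow_succ]
    have h := hiter (orderOf t)
    rw [pow_orderOf_eq_one, one_mul, inv_one, mul_one] at h
    have h' : u ^ (r ^ orderOf t) = u ^ 1 := by rw [pow_one]; exact h.symm
    rw [pow_eq_pow_iff_modEq, orderOf_of_mem_prime hP hu hu1, ← ZMod.natCast_eq_natCast_iff] at h'
    push_cast at h'
    exact h'
  refine ⟨t, r, hP, hC, hu, hu1, he2, hed, hprim, he, htu, hord, fun g hg => ?_⟩
  obtain ⟨s, hs⟩ := hgen g hg
  rw [hC] at hs
  obtain ⟨i, hi⟩ := exists_upow_eq hP hu hu1 hs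
  exact ⟨i, s, by rw [hi, mul_inv_cancel_left]⟩

variable {P : Sylow p G} {u t : G} {r e : ℕ}

namespace Frame

theorem orderOf_u (F : Frame p P u t r e) : orderOf u = p :=
  orderOf_of_mem_prime F.card_P F.mem F.ne_one

theorem pow_u (F : Frame p P u t r e) : u ^ p = 1 := F.orderOf_u ▸ pow_orderOf_eq_one u

theorem pow_t (F : Frame p P u t r e) : t ^ e = 1 := F.order ▸ pow_orderOf_eq_one t

theorem e_lt (F : Frame p P u t r e) : e < p := by
  have := Nat.le_of_dvd (by have := hp.out.two_le; omega) F.dvd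
  have := hp.out.two_le
  omega

theorem conj_pow_t (F : Frame p P u t r e) (s : ℕ) (i : ZMod p) :
    t ^ s * upow u i * (t ^ s)⁻¹ = upow u ((r : ZMod p) ^ s * i) := by
  induction s generalizing i with
  | zero => simp
  | succ s ih =>
    rw [pow_succ, show t ^ s * t * upow u i * (t ^ s * t)⁻¹ = t ^ s * (t * upow u i * t⁻¹) * (t ^ s)⁻¹
      by group, show t * upow u i * t⁻¹ = upow u ((r : ZMod p) * i) by
        rw [upow, ← conj_pow, F.conj_u, ← pow_mul, mul_comm r, pow_mul, upow_mul_natCast F.pow_u]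
        rfl, ih, pow_succ, mul_assoc]

theorem not_dvd_cpow [NeZero e] (F : Frame p P u t r e) (s : ZMod e) : ¬ p ∣ orderOf (cpow t s) := by
  intro h
  have h1 : orderOf (cpow t s) ∣ e := (orderOf_pow_dvd s.val).trans F.order.dvd
  have := Nat.le_of_dvd (Nat.pos_of_ne_zero (NeZero.ne e)) (h.trans h1)
  have := F.e_lt
  omega

theorem cpow_t_eq_one [NeZero e] (F : Frame p P u t r e) {s : ZMod e} (h : cpow t s = 1) : s = 0 := by
  rw [cpow, ← orderOf_dvd_iff_pow_eq_one, F.order] at h
  exact (ZMod.val_eq_zero s).1 (Nat.eq_zero_of_dvd_of_lt h (ZMod.val_lt s))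

/-- Off `P` every element of the normalizer is conjugate to an element of `⟨t⟩`. -/
theorem isConj_mul [NeZero e] (F : Frame p P u t r e) (i : ZMod p) {s : ZMod e} (hs : s ≠ 0) :
    IsConj (upow u i * cpow t s) (cpow t s) := by
  have hne : (1 : ZMod p) - (r : ZMod p) ^ s.val ≠ 0 := by
    rw [sub_ne_zero]
    intro h
    exact hs ((ZMod.val_eq_zero s).1
      (Nat.eq_zero_of_dvd_of_lt (F.prim.dvd_of_pow_eq_one _ h.symm) (ZMod.val_lt s)))
  refine (isConj_iff.2 ⟨upow u (i * (1 - (r : ZMod p) ^ s.val)⁻¹), ?_⟩).symm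
  set j := i * (1 - (r : ZMod p) ^ s.val)⁻¹ with hj
  have hji : j - (r : ZMod p) ^ s.val * j = i := by
    rw [show j - (r : ZMod p) ^ s.val * j = j * (1 - (r : ZMod p) ^ s.val) by ring, hj,
      inv_mul_cancel_right₀ hne]
  have hinv : (upow u j)⁻¹ = upow u (-j) :=
    inv_eq_of_mul_eq_one_right (by rw [← upow_add F.pow_u, add_neg_cancel, upow_zero])
  have h1 : cpow t s * (upow u j)⁻¹ = upow u (-((r : ZMod p) ^ s.val * j)) * cpow t s := by
    rw [hinv, ← mul_neg ((r : ZMod p) ^ s.val) j, ← F.conj_pow_t, cpow]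
    group
  rw [mul_assoc, h1, ← mul_assoc, ← upow_add F.pow_u, ← sub_eq_add_neg, hji]

/-- Conjugacy inside `P`. -/
theorem isConj_upow_iff (F : Frame p P u t r e) {i j : ZMod p} (hi : i ≠ 0) :
    IsConj (upow u i) (upow u j) ↔ ∃ s < e, (r : ZMod p) ^ s * i = j := by
  constructor
  · intro h
    obtain ⟨g, hg⟩ := isConj_iff.1 h
    have hj1 : upow u j ≠ 1 := by
      rw [← hg]
      intro h'
      rw [conj_eq_one_iff] at h'
      exact hi ((upow_eq_one_iff F.orderOf_u i).1 h')
    have hgN : g ∈ Subgroup.normalizer ((P : Subgroup G) : Set G) := by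
      refine mem_normalizer_of_conj_mem (P : Subgroup G) F.card_P (sq_not_dvd P F.card_P)
        (upow_mem F.mem j) hj1 ?_
      rw [← hg, show g⁻¹ * (g * upow u i * g⁻¹) * g = upow u i by group]
      exact Subgroup.le_normalizer (upow_mem F.mem i)
    obtain ⟨k, s, rfl⟩ := F.gen g hgN
    refine ⟨s % e, Nat.mod_lt _ (by have := F.two_le; omega), ?_⟩
    rw [show t ^ s * upow u k * upow u i * (t ^ s * upow u k)⁻¹ =
      t ^ s * (upow u k * upow u i * (upow u k)⁻¹) * (t ^ s)⁻¹ by group,
      ← upow_add F.pow_u, add_comm, upow_add F.pow_u, mul_inv_cancel_right, F.conj_pow_t] at hg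
    rw [← upow_injective F.orderOf_u hg]
    conv_rhs => rw [← Nat.mod_add_div s e, pow_add, pow_mul, F.prim.pow_eq_one, one_pow, mul_one]
  · rintro ⟨s, -, rfl⟩
    exact isConj_iff.2 ⟨t ^ s, F.conj_pow_t s i⟩

/-- The `p`-singular elements are conjugate into `P`. -/
theorem exists_conj_upow (F : Frame p P u t r e) {g : G} (hg : p ∣ orderOf g) :
    ∃ i : ZMod p, i ≠ 0 ∧ IsConj g (upow u i) := by
  set k := orderOf g / p with hk
  have hgo : orderOf g ≠ 0 := (orderOf_pos g).ne'
  have hx : orderOf (g ^ k) = p := by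
    have hk0 : k ≠ 0 := by
      rw [hk, Ne, Nat.div_eq_zero_iff, not_or, not_lt]
      exact ⟨hp.out.ne_zero, Nat.le_of_dvd (orderOf_pos g) hg⟩
    rw [orderOf_pow_of_dvd hk0 (Nat.div_dvd_of_dvd hg), hk, Nat.div_div_self hg hgo]
  have hxg : IsPGroup p (Subgroup.zpowers (g ^ k)) :=
    IsPGroup.of_card (n := 1) (by rw [Nat.card_zpowers, hx, pow_one])
  obtain ⟨Q, hQ⟩ := hxg.exists_le_sylow
  obtain ⟨c, hc⟩ := MulAction.exists_smul_eq G Q P
  have hxP : c * g ^ k * c⁻¹ ∈ (P : Subgroup G) := by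
    rw [← hc, Sylow.smul_def]
    show MulAut.conj c • (g ^ k) ∈ _
    exact Subgroup.mem_map_of_mem _ (hQ (Subgroup.mem_zpowers _))
  have hx1 : c * g ^ k * c⁻¹ ≠ 1 := fun h => by
    rw [conj_eq_one_iff] at h
    rw [h, orderOf_one] at hx
    exact hp.out.one_lt.ne hx
  have hmem : c * g * c⁻¹ ∈ Subgroup.centralizer ((P : Subgroup G) : Set G) := by
    refine Subgroup.mem_centralizer_iff.2 fun y hy => ?_
    obtain ⟨i, rfl⟩ := exists_upow_eq F.card_P hxP hx1 hy
    rw [upow, ← conj_pow (i := k)]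
    exact ((Commute.self_pow (c * g * c⁻¹) k).pow_right i.val).symm
  rw [F.cent] at hmem
  obtain ⟨i, hi⟩ := exists_upow_eq F.card_P F.mem F.ne_one hmem
  refine ⟨i, ?_, isConj_iff.2 ⟨c, hi.symm⟩⟩
  rintro rfl
  rw [upow_zero, eq_comm, conj_eq_one_iff] at hi
  rw [hi, orderOf_one, Nat.dvd_one] at hg
  exact hp.out.one_lt.ne' hg

theorem card_centralizer_upow (F : Frame p P u t r e) {i : ZMod p} (hi : i ≠ 0) :
    Nat.card (Subgroup.centralizer ({upow u i} : Set G)) = p := by
  have h1 : upow u i ≠ 1 := fun h => hi ((upow_eq_one_iff F.orderOf_u i).1 h)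
  have h2 : Subgroup.centralizer ({upow u i} : Set G) = (P : Subgroup G) := by
    rw [← F.cent]
    refine le_antisymm (fun g hg => ?_)
      (Subgroup.centralizer_le (Set.singleton_subset_iff.2 (upow_mem F.mem i)))
    refine Subgroup.mem_centralizer_iff.2 fun y hy => ?_
    obtain ⟨j, rfl⟩ := exists_upow_eq F.card_P (upow_mem F.mem i) h1 hy
    exact Commute.pow_left (Subgroup.mem_centralizer_singleton_iff.1 hg).symm j.val
  rw [h2]
  exact F.card_P

theorem card_eq (F : Frame p P u t r e) : Nat.card G = p * (e * Nat.card (Sylow p G)) := by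
  rw [← F.rel, ← index_centralizer P F.card_P F.mem F.ne_one]
  have h1 : Nat.card (Subgroup.centralizer ({u} : Set G)) = p := by
    have h := F.card_centralizer_upow (i := (1 : ZMod p)) one_ne_zero
    rwa [upow, ZMod.val_one, pow_one] at h
  calc Nat.card G = Nat.card (Subgroup.centralizer ({u} : Set G)) *
        (Subgroup.centralizer ({u} : Set G)).index := (Subgroup.card_mul_index _).symm
    _ = _ := by rw [h1]

/-! ### The multiplicities -/

/-- The multiplicity of a linear character of `N(P) / P` in the restriction. -/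
noncomputable def mu [NeZero e] (p : ℕ) [Fact p.Prime] (u t : G) (χ : IrrCharacter G) (l : ZMod e) :
    ℂ :=
  (e : ℂ)⁻¹ * ∑ s : ZMod e, ZMod.stdAddChar (-(s * l)) *
    ((p : ℂ)⁻¹ * ∑ i : ZMod p, (χ : G → ℂ) (upow u i * cpow t s))

/-- The dimension of the fixed space of `P`. -/
noncomputable def fix (p : ℕ) [Fact p.Prime] (u : G) (χ : IrrCharacter G) : ℂ :=
  (p : ℂ)⁻¹ * ∑ i : ZMod p, (χ : G → ℂ) (upow u i)

variable [NeZero e]

theorem mu_nat (F : Frame p P u t r e) (χ : IrrCharacter G) (l : ZMod e) :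
    ∃ k : ℕ, mu p u t χ l = k := by
  obtain ⟨n, ρ, -, hρ⟩ := χ.2
  let E := proj (m := p) ρ u (0 : ZMod p)
  let L := proj (m := e) ρ t l
  have hE : E * E = E := proj_sq ρ F.pow_u 0
  have hL : L * L = L := proj_sq ρ F.pow_t l
  have hcomm : Commute E L := by
    have h1 : ∀ s : ℕ, Commute E (ρ (t ^ s)) := by
      intro s
      show E * ρ (t ^ s) = ρ (t ^ s) * E
      simp only [E, proj, mul_zero, neg_zero, AddChar.map_zero_eq_one, one_smul, smul_mul_assoc,
        mul_smul_comm, Finset.sum_mul, Finset.mul_sum, ← map_mul]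
      congr 1
      have hr : ((r : ZMod p) ^ s) ≠ 0 :=
        pow_ne_zero _ (F.prim.ne_zero (by have := F.two_le; omega))
      refine (Fintype.sum_equiv (Equiv.mulLeft₀ _ hr) _ _ fun i => ?_).symm
      congr 1
      show t ^ s * upow u i = upow u ((r : ZMod p) ^ s * i) * t ^ s
      rw [← F.conj_pow_t, inv_mul_cancel_right]
    show Commute E ((e : ℂ)⁻¹ • ∑ s : ZMod e, ZMod.stdAddChar (-(s * l)) • ρ (cpow t s))
    exact Commute.smul_right (Commute.sum_right (Finset.univ : Finset (ZMod e))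
      (fun s => ZMod.stdAddChar (-(s * l)) • ρ (cpow t s)) E fun s _ => (h1 s.val).smul_right _) _
  have hEL : (E * L) * (E * L) = E * L := by
    rw [mul_assoc, ← mul_assoc L, ← hcomm.eq, mul_assoc E L, hL, ← mul_assoc, hE]
  refine ⟨Module.finrank ℂ (LinearMap.range (E * L)), ?_⟩
  rw [← trace_idempotent hEL, mu]
  simp only [E, L, proj, mul_zero, neg_zero, AddChar.map_zero_eq_one, one_smul, smul_mul_assoc,
    mul_smul_comm, Finset.sum_mul, Finset.mul_sum, map_smul, map_sum, smul_eq_mul, ← map_mul, ← hρ,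
    Representation.character]
  exact Finset.sum_congr rfl fun s _ => Finset.sum_congr rfl fun i _ => rfl

theorem sum_stdAddChar_eq (b : ZMod e) :
    ∑ x : ZMod e, ZMod.stdAddChar (x * b) = if b = 0 then (e : ℂ) else 0 := by
  rw [AddChar.sum_mulShift b (ZMod.isPrimitive_stdAddChar e), ZMod.card]
  split_ifs <;> simp

theorem sum_mu_mul (F : Frame p P u t r e) (χ : IrrCharacter G) (s : ZMod e) :
    ∑ l : ZMod e, mu p u t χ l * ZMod.stdAddChar (s * l) =
      (p : ℂ)⁻¹ * ∑ i : ZMod p, (χ : G → ℂ) (upow u i * cpow t s) := by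
  have he : (e : ℂ) ≠ 0 := Nat.cast_ne_zero.2 (NeZero.ne e)
  simp only [mu, Finset.mul_sum, Finset.sum_mul]
  rw [Finset.sum_comm, Finset.sum_eq_single s]
  · rw [Finset.sum_comm]
    refine Finset.sum_congr rfl fun i _ => ?_
    calc ∑ l : ZMod e, (e : ℂ)⁻¹ * (ZMod.stdAddChar (-(s * l)) *
          ((p : ℂ)⁻¹ * (χ : G → ℂ) (upow u i * cpow t s))) * ZMod.stdAddChar (s * l)
        = ∑ _l : ZMod e, (e : ℂ)⁻¹ * ((p : ℂ)⁻¹ * (χ : G → ℂ) (upow u i * cpow t s)) := by
          refine Finset.sum_congr rfl fun l _ => ?_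
          have h1 : ZMod.stdAddChar (-(s * l)) * ZMod.stdAddChar (s * l) = 1 := by
            rw [← AddChar.map_add_eq_mul, neg_add_cancel, AddChar.map_zero_eq_one]
          linear_combination (e : ℂ)⁻¹ * ((p : ℂ)⁻¹ * (χ : G → ℂ) (upow u i * cpow t s)) * h1
      _ = _ := by
        rw [Finset.sum_const, Finset.card_univ, ZMod.card, nsmul_eq_mul]
        field_simp
  · intro s' _ hne
    rw [Finset.sum_comm]
    refine Finset.sum_eq_zero fun i _ => ?_
    calc ∑ l : ZMod e, (e : ℂ)⁻¹ * (ZMod.stdAddChar (-(s' * l)) *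
          ((p : ℂ)⁻¹ * (χ : G → ℂ) (upow u i * cpow t s'))) * ZMod.stdAddChar (s * l)
        = (e : ℂ)⁻¹ * ((p : ℂ)⁻¹ * (χ : G → ℂ) (upow u i * cpow t s')) *
            ∑ l : ZMod e, ZMod.stdAddChar (l * (s - s')) := by
          rw [Finset.mul_sum]
          refine Finset.sum_congr rfl fun l _ => ?_
          have h1 : ZMod.stdAddChar (-(s' * l)) * ZMod.stdAddChar (s * l) =
              ZMod.stdAddChar (l * (s - s')) := by
            rw [← AddChar.map_add_eq_mul]
            congr 1
            ring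
          linear_combination (e : ℂ)⁻¹ * ((p : ℂ)⁻¹ * (χ : G → ℂ) (upow u i * cpow t s')) * h1
      _ = 0 := by rw [sum_stdAddChar_eq, if_neg (sub_ne_zero.2 (Ne.symm hne)), mul_zero]
  · exact fun h => absurd (Finset.mem_univ s) h

theorem sum_mu (F : Frame p P u t r e) (χ : IrrCharacter G) :
    ∑ l : ZMod e, mu p u t χ l = fix p u χ := by
  have h := F.sum_mu_mul χ 0
  simp only [zero_mul, AddChar.map_zero_eq_one, mul_one, cpow_zero] at h
  exact h

theorem apply_cpow (F : Frame p P u t r e) (χ : IrrCharacter G) {s : ZMod e} (hs : s ≠ 0) :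
    (χ : G → ℂ) (cpow t s) = ∑ l : ZMod e, mu p u t χ l * ZMod.stdAddChar (s * l) := by
  rw [F.sum_mu_mul, Finset.sum_congr rfl fun i _ =>
    IsClassFunction.eq_of_isConj (irr_isClassFunction χ) (F.isConj_mul i hs), Finset.sum_const,
    Finset.card_univ, ZMod.card, nsmul_eq_mul, inv_mul_cancel_left₀ (Nat.cast_ne_zero.2 hp.out.ne_zero)]

theorem mu_eq_zero_of_fix (F : Frame p P u t r e) {χ : IrrCharacter G} (h : fix p u χ = 0)
    (l : ZMod e) : mu p u t χ l = 0 := by
  choose k hk using fun l => F.mu_nat χ l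
  rw [← F.sum_mu χ, Finset.sum_congr rfl fun l _ => hk l, ← Nat.cast_sum, Nat.cast_eq_zero,
    Finset.sum_eq_zero_iff] at h
  rw [hk l, h l (Finset.mem_univ l), Nat.cast_zero]

open scoped Classical in
/-- Second orthogonality against a multiplicity. -/
theorem sum_mu_conj (F : Frame p P u t r e) [Fintype (IrrCharacter G)] (l : ZMod e) (g : G) :
    ∑ χ : IrrCharacter G, mu p u t χ l * conj ((χ : G → ℂ) g) =
      (e : ℂ)⁻¹ * ((p : ℂ)⁻¹ * ∑ s : ZMod e, ZMod.stdAddChar (-(s * l)) * ∑ i : ZMod p,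
        if IsConj (upow u i * cpow t s) g
          then (Nat.card (Subgroup.centralizer ({upow u i * cpow t s} : Set G)) : ℂ) else 0) := by
  simp only [mu, Finset.mul_sum, Finset.sum_mul]
  rw [Finset.sum_comm]
  refine Finset.sum_congr rfl fun s _ => ?_
  rw [Finset.sum_comm]
  refine Finset.sum_congr rfl fun i _ => ?_
  calc _ = (e : ℂ)⁻¹ * ((p : ℂ)⁻¹ * (ZMod.stdAddChar (-(s * l)) *
        ∑ χ : IrrCharacter G, (χ : G → ℂ) (upow u i * cpow t s) * conj ((χ : G → ℂ) g))) := by
        rw [Finset.mul_sum, Finset.mul_sum, Finset.mul_sum]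
        exact Finset.sum_congr rfl fun χ _ => by ring
    _ = _ := by
        rw [sum_irr_mul_conj]
        split_ifs <;> rfl

/-- The degree of the induced character. -/
theorem sum_mu_degree (F : Frame p P u t r e) [Fintype (IrrCharacter G)] (l : ZMod e) :
    ∑ χ : IrrCharacter G, mu p u t χ l * (χ : G → ℂ) 1 = (Nat.card (Sylow p G) : ℂ) := by
  classical
  have h1 : ∀ χ : IrrCharacter G, conj ((χ : G → ℂ) 1) = (χ : G → ℂ) 1 := fun χ => by
    rw [← charDegree_eq χ, map_natCast]
  calc ∑ χ : IrrCharacter G, mu p u t χ l * (χ : G → ℂ) 1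
      = ∑ χ : IrrCharacter G, mu p u t χ l * conj ((χ : G → ℂ) 1) := by simp only [h1]
    _ = _ := by
      rw [F.sum_mu_conj, Finset.sum_eq_single 0]
      · rw [Finset.sum_eq_single 0]
        · rw [upow_zero, cpow_zero, mul_one, if_pos (IsConj.refl 1), zero_mul, neg_zero,
            AddChar.map_zero_eq_one, one_mul]
          have hc : Subgroup.centralizer ({(1 : G)} : Set G) = ⊤ := by
            ext x; simp [Subgroup.mem_centralizer_singleton_iff]
          rw [hc, Subgroup.card_top, F.card_eq]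
          have : (e : ℂ) ≠ 0 := Nat.cast_ne_zero.2 (NeZero.ne e)
          have : (p : ℂ) ≠ 0 := Nat.cast_ne_zero.2 hp.out.ne_zero
          push_cast
          field_simp
        · intro i _ hi
          rw [if_neg]
          rw [cpow_zero, mul_one, isConj_one_left, upow_eq_one_iff F.orderOf_u]
          exact hi
        · exact fun h => absurd (Finset.mem_univ _) h
      · intro s _ hs
        rw [Finset.sum_eq_zero, mul_zero]
        intro i _
        rw [if_neg]
        intro h
        have h' := (F.isConj_mul i hs).symm.trans h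
        exact hs (F.cpow_t_eq_one (isConj_one_left.1 h'))
      · exact fun h => absurd (Finset.mem_univ _) h

/-- The induced character takes the value `1` on the non-trivial elements of `P`. -/
theorem sum_mu_upow (F : Frame p P u t r e) [Fintype (IrrCharacter G)] (l : ZMod e) {k : ZMod p}
    (hk : k ≠ 0) : ∑ χ : IrrCharacter G, mu p u t χ l * conj ((χ : G → ℂ) (upow u k)) = 1 := by
  classical
  have hr0 : (r : ZMod p) ≠ 0 := F.prim.ne_zero (NeZero.ne e)
  rw [F.sum_mu_conj, Finset.sum_eq_single 0]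
  · simp only [zero_mul, neg_zero, AddChar.map_zero_eq_one, one_mul, cpow_zero, mul_one]
    set T := (Finset.range e).image fun s => (r : ZMod p) ^ s * k with hT
    have hTcard : T.card = e := by
      rw [hT, Finset.card_image_of_injOn, Finset.card_range]
      exact fun a ha b hb h => F.prim.pow_inj (Finset.mem_range.1 ha) (Finset.mem_range.1 hb)
        (mul_right_cancel₀ hk h)
    rw [← Finset.sum_subset (Finset.subset_univ T)]
    · rw [Finset.sum_congr rfl (g := fun _ => (p : ℂ)), Finset.sum_const, hTcard, nsmul_eq_mul]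
      · have he : (e : ℂ) ≠ 0 := Nat.cast_ne_zero.2 (NeZero.ne e)
        have hp0 : (p : ℂ) ≠ 0 := Nat.cast_ne_zero.2 hp.out.ne_zero
        field_simp
      · intro i hi
        obtain ⟨s, hs, rfl⟩ := Finset.mem_image.1 hi
        rw [if_pos ((F.isConj_upow_iff hk).2 ⟨s, Finset.mem_range.1 hs, rfl⟩).symm,
          F.card_centralizer_upow (mul_ne_zero (pow_ne_zero _ hr0) hk)]
    · intro i _ hi
      rw [if_neg]
      intro h
      obtain ⟨s, hs, hs'⟩ := (F.isConj_upow_iff hk).1 h.symm
      exact hi (Finset.mem_image.2 ⟨s, Finset.mem_range.2 hs, hs'⟩)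
  · intro s _ hs
    rw [Finset.sum_eq_zero, mul_zero]
    intro i _
    rw [if_neg]
    intro h
    have h' := orderOf_eq_of_isConj ((F.isConj_mul i hs).symm.trans h)
    exact F.not_dvd_cpow s (by
      rw [h', orderOf_of_mem_prime F.card_P (upow_mem F.mem k)
        fun h'' => hk ((upow_eq_one_iff F.orderOf_u k).1 h'')])
  · exact fun h => absurd (Finset.mem_univ _) h

open scoped Classical in
/-- The elements of `⟨t⟩` conjugate to a given one. -/
noncomputable def fused (e : ℕ) [NeZero e] (t g : G) : Finset (ZMod e) :=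
  Finset.univ.filter fun s => s ≠ 0 ∧ IsConj (cpow t s) g

/-- The permutation character at a non-trivial element of `⟨t⟩`. -/
theorem sum_mu_cpow (F : Frame p P u t r e) [Fintype (IrrCharacter G)] {s₀ : ZMod e} (hs₀ : s₀ ≠ 0) :
    ∑ χ : IrrCharacter G, mu p u t χ (0 : ZMod e) * conj ((χ : G → ℂ) (cpow t s₀)) =
      (e : ℂ)⁻¹ * ((fused e t (cpow t s₀)).card *
        Nat.card (Subgroup.centralizer ({cpow t s₀} : Set G))) := by
  classical
  rw [F.sum_mu_conj, ← Finset.sum_subset (Finset.subset_univ (fused e t (cpow t s₀)))]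
  · rw [Finset.sum_congr rfl (g := fun _ =>
      (p : ℂ) * Nat.card (Subgroup.centralizer ({cpow t s₀} : Set G))), Finset.sum_const, nsmul_eq_mul]
    · have he : (e : ℂ) ≠ 0 := Nat.cast_ne_zero.2 (NeZero.ne e)
      have hp0 : (p : ℂ) ≠ 0 := Nat.cast_ne_zero.2 hp.out.ne_zero
      field_simp
    · intro s hs
      obtain ⟨-, hs0, hsc⟩ := Finset.mem_filter.1 hs
      have h1 : ∀ i : ZMod p, IsConj (upow u i * cpow t s) (cpow t s₀) := fun i =>
        (F.isConj_mul i hs0).trans hsc
      rw [mul_zero, neg_zero, AddChar.map_zero_eq_one, one_mul,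
        Finset.sum_congr rfl (g := fun _ => (Nat.card (Subgroup.centralizer ({cpow t s₀} : Set G)) : ℂ)),
        Finset.sum_const, Finset.card_univ, ZMod.card, nsmul_eq_mul]
      intro i _
      rw [if_pos (h1 i)]
      have hne : (Nat.card {x : G // IsConj (cpow t s₀) x} : ℕ) ≠ 0 := by
        haveI : Nonempty {x : G // IsConj (cpow t s₀) x} := ⟨⟨_, IsConj.refl _⟩⟩
        exact Nat.card_pos.ne'
      have e1 := card_conj_mul_card_centralizer (upow u i * cpow t s)
      have e2 := card_conj_mul_card_centralizer (cpow t s₀)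
      rw [Nat.card_congr (Equiv.subtypeEquivRight fun x =>
        ⟨fun h => (h1 i).symm.trans h, fun h => (h1 i).trans h⟩)] at e1
      exact_mod_cast mul_left_cancel₀ hne (e1.trans e2.symm)
  · intro s _ hs
    rw [Finset.sum_eq_zero, mul_zero]
    intro i _
    rw [if_neg]
    intro h
    by_cases hs0 : s = 0
    · subst hs0
      rw [cpow_zero, mul_one] at h
      by_cases hi : i = 0
      · rw [hi, upow_zero, isConj_one_right] at h
        exact hs₀ (F.cpow_t_eq_one h)
      · exact F.not_dvd_cpow s₀ (by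
          rw [← orderOf_eq_of_isConj h, orderOf_of_mem_prime F.card_P (upow_mem F.mem i)
            fun h'' => hi ((upow_eq_one_iff F.orderOf_u i).1 h'')])
    · exact hs (Finset.mem_filter.2 ⟨Finset.mem_univ _, hs0, (F.isConj_mul i hs0).symm.trans h⟩)

end Frame

end Cfsg.Agent.Lib.BrauerPrime
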