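import Cfsg.Agent.Lib.BrauerPrime.CentralizerEq
import Cfsg.Agent.Lib.BrauerPrime.Torus
import Cfsg.Agent.Lib.Blocks.SmallDegree
import Cfsg.Agent.Lib.CharMisc.InvolutionCount

/-!
# Brauer's theorem on groups with a self-centralizing subgroup of prime order: the two shapes
-/

set_option autoImplicit false
set_option linter.unusedSectionVars false
set_option linter.style.haveILetI false
set_option maxHeartbeats 1000000

namespace Cfsg.Agent.Lib.BrauerPrime

open Cfsg Cfsg.Agent.Lib.Characters Cfsg.Agent.Lib.Blocks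
open scoped ComplexConjugate

universe u

variable {G : Type u} [Group G] [Fintype G] {p : ℕ} [hp : Fact p.Prime]

/-- The data that single out `SL(2, 2 ^ m)`, `p = 2 ^ m + 1`. -/
structure EvenData (p : ℕ) (θ : IrrCharacter G) (z : G) : Prop where
  five_le : 5 ≤ p
  card_G : Nat.card G = p * (p - 1) * (p - 2)
  card_sylow : Nat.card (Sylow p G) * 2 = (p - 1) * (p - 2)
  degree : charDegree (θ : G → ℂ) = p - 1
  unique : ∀ χ : IrrCharacter G, charDegree (χ : G → ℂ) = p - 1 → χ = θ
  value : ∀ g : G, orderOf g = p → (θ : G → ℂ) g = -1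
  singular : ∀ g : G, p ∣ orderOf g → orderOf g = p
  order : orderOf z = 2
  card_centralizer : Nat.card (Subgroup.centralizer ({z} : Set G)) = p - 1
  value_z : (θ : G → ℂ) z = 0

theorem charDegree_triv : charDegree ((trivIrr G : IrrCharacter G) : G → ℂ) = 1 :=
  Nat.cast_injective (R := ℂ) (by rw [charDegree_eq, trivIrr_apply, Nat.cast_one])

theorem sum_natDegree_sq [Fintype (IrrCharacter G)] :
    ∑ χ : IrrCharacter G, charDegree (χ : G → ℂ) ^ 2 = Nat.card G := by
  have h := sum_degree_sq (G := G)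
  simp only [← charDegree_eq] at h
  exact_mod_cast h

/-- An element normalizing `⟨t⟩`: the order of the normalizer. -/
theorem card_fused_mul_dvd {e : ℕ} [NeZero e] {t : G} (ht : t ^ e = 1) (hord : orderOf t = e)
    (h1 : (1 : ZMod e) ≠ 0) :
    (Frame.fused e t t).card * Nat.card (Subgroup.centralizer ({t} : Set G)) ∣ Nat.card G := by
  classical
  set N := Subgroup.normalizer ((Subgroup.zpowers t : Subgroup G) : Set G) with hN
  suffices h : Nat.card N = (Frame.fused e t t).card * Nat.card (Subgroup.centralizer ({t} : Set G)) by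
    rw [← h]; exact Subgroup.card_subgroup_dvd_card N
  have hinj : ∀ a b : ZMod e, cpow t a = cpow t b → a = b := by
    intro a b h
    have h' : a.val ≡ b.val [MOD e] := by
      have := pow_eq_pow_iff_modEq.1 h
      rwa [hord] at this
    exact ZMod.val_injective e (Nat.ModEq.eq_of_lt_of_lt h' (ZMod.val_lt a) (ZMod.val_lt b))
  have hmem : ∀ g : G, g ∈ N ↔ ∃ s ∈ Frame.fused e t t, g * t * g⁻¹ = cpow t s := by
    intro g
    constructor
    · intro hg
      have h2 := ((Subgroup.mem_normalizer_iff.1 hg) t).1 (Subgroup.mem_zpowers t)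
      rw [← mem_powers_iff_mem_zpowers] at h2
      obtain ⟨k, hk⟩ := h2
      refine ⟨(k : ZMod e), Finset.mem_filter.2 ⟨Finset.mem_univ _, ?_, ?_⟩, by rw [cpow_natCast ht]; exact hk.symm⟩
      · intro h0
        have hk1 : g * t * g⁻¹ = 1 := by
          rw [← hk]
          show t ^ k = 1
          rw [← cpow_natCast (m := e) ht, h0, cpow_zero]
        rw [conj_eq_one_iff] at hk1
        rw [hk1, orderOf_one] at hord
        subst hord
        exact h1 (Subsingleton.elim _ _)
      · rw [cpow_natCast ht]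
        exact (isConj_iff.2 ⟨g, hk.symm⟩).symm
    · rintro ⟨s, -, hs⟩
      refine Subgroup.mem_normalizer_fintype ?_
      intro y hy
      obtain ⟨k, rfl⟩ := hy
      show g * t ^ k * g⁻¹ ∈ _
      rw [← conj_zpow, hs]
      exact Subgroup.zpow_mem _ (Subgroup.pow_mem _ (Subgroup.mem_zpowers t) _) _
  rw [Nat.card_eq_fintype_card, show Fintype.card N =
    ((Finset.univ : Finset G).filter fun g => g ∈ N).card from Fintype.card_subtype _,
    show ((Finset.univ : Finset G).filter fun g => g ∈ N) = (Frame.fused e t t).biUnion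
      fun s => (Finset.univ : Finset G).filter fun g => g * t * g⁻¹ = cpow t s by
      ext g; simp [hmem],
    Finset.card_biUnion, Finset.sum_congr rfl (g := fun _ => Nat.card (Subgroup.centralizer ({t} : Set G))),
    Finset.sum_const, smul_eq_mul]
  · intro s hs
    obtain ⟨g₀, hg₀⟩ := isConj_iff.1 ((Finset.mem_filter.1 hs).2.2).symm
    rw [Nat.card_eq_fintype_card, ← Finset.card_univ]
    refine Finset.card_bij' (fun g hg => (⟨g₀⁻¹ * g, ?_⟩ : Subgroup.centralizer ({t} : Set G)))
      (fun c _ => g₀ * (c : G)) (fun _ _ => Finset.mem_univ _) (fun c _ => ?_)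
      (fun g _ => by simp) (fun c _ => by simp)
    · rw [Subgroup.mem_centralizer_singleton_iff]
      have hg' := (Finset.mem_filter.1 hg).2
      rw [← hg₀] at hg'
      calc g₀⁻¹ * g * t = g₀⁻¹ * (g * t * g⁻¹) * g := by group
        _ = t * (g₀⁻¹ * g) := by rw [hg']; group
    · refine Finset.mem_filter.2 ⟨Finset.mem_univ _, ?_⟩
      rw [← hg₀]
      calc g₀ * (c : G) * t * (g₀ * (c : G))⁻¹ = g₀ * ((c : G) * t) * ((c : G))⁻¹ * g₀⁻¹ := by group
        _ = g₀ * t * g₀⁻¹ := by rw [Subgroup.mem_centralizer_singleton_iff.1 c.2]; group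
  · intro a _ b _ hab
    rw [Function.onFun, Finset.disjoint_left]
    intro g ha hb
    exact hab (hinj a b ((Finset.mem_filter.1 ha).2.symm.trans (Finset.mem_filter.1 hb).2))

/-- **Brauer's theorem**: the two shapes. -/
theorem shape (hperf : commutator G = ⊤) (P : Sylow p G) (hP : Nat.card P = p) {n : ℕ}
    (hn : Nat.card (Sylow p G) = 1 + n * p) (hF : ¬ HasForm p n)
    (hC : Subgroup.centralizer ((P : Subgroup G) : Set G) = (P : Subgroup G))
    (hfaith : ∀ χ : IrrCharacter G, χ ≠ trivIrr G → ∀ g : G, (χ : G → ℂ) g = (χ : G → ℂ) 1 → g = 1) :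
    (5 ≤ p ∧ n = 1 ∧ 2 * Nat.card G = p * (p ^ 2 - 1)) ∨
      ∃ (θ : IrrCharacter G) (z : G), EvenData p θ z := by
  classical
  haveI := Fintype.ofFinite (IrrCharacter G)
  obtain ⟨M, hM⟩ := exists_isPModular hp.out
  haveI : M.IsPrime := hM.2.1.isPrime
  obtain ⟨e, hrel⟩ : ∃ e, (Subgroup.centralizer ((P : Subgroup G) : Set G)).relIndex
    (Subgroup.normalizer ((P : Subgroup G) : Set G)) = e := ⟨_, rfl⟩
  obtain ⟨he2, hed, hodd⟩ := index_facts hperf P hP hrel
  have hn0 := sylow_param_pos hperf P hP hn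
  have hp3 : 3 ≤ p := by have := hp.out.two_le; omega
  haveI : NeZero e := ⟨by omega⟩
  obtain ⟨X, Y, εX, ε, u, hu, hu1, -, hdisj, hXcard, hYcard, htX, hX, hε, hYd, hYeq, hrelX, hYsum,
    hBsum⟩ := principal_block_prime_order_data hM hodd P hP e hrel
  obtain ⟨t, r, F⟩ := exists_frame P hP hC hu hu1 he2 hed hrel
  obtain ⟨f, hf⟩ := hed
  have hfY : Y.card = f := by rw [hYcard, hf, Nat.mul_div_cancel_left _ (by omega)]
  have hf0 : 0 < f := by
    by_contra h
    rw [show f = 0 by omega, mul_zero] at hf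
    omega
  have hed : e ∣ p - 1 := Dvd.intro f hf.symm
  have hGcard : Nat.card G = p * (e * (1 + n * p)) := by rw [F.card_eq, hn]
  set np := 1 + n * p with hnp
  have hnp_lt : p < np := by
    have : p ≤ n * p := Nat.le_mul_of_pos_left p hn0
    omega
  set E := (Finset.univ : Finset (ZMod p)).erase 0 with hE
  have hEcard : E.card = p - 1 := by
    rw [hE, Finset.card_erase_of_mem (Finset.mem_univ _), Finset.card_univ, ZMod.card]
  have hpC : (p : ℂ) ≠ 0 := Nat.cast_ne_zero.2 hp.out.ne_zero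
  choose m hm using fun (χ : IrrCharacter G) (l : ZMod e) => F.mu_nat χ l
  let h : IrrCharacter G → ℕ := fun χ => ∑ l, m χ l
  let D : IrrCharacter G → ℕ := fun χ => charDegree (χ : G → ℂ)
  have hDC : ∀ χ : IrrCharacter G, (χ : G → ℂ) 1 = (D χ : ℂ) := fun χ => (charDegree_eq χ).symm
  have hfix : ∀ χ : IrrCharacter G, (p : ℂ) * (h χ : ℂ) = (D χ : ℂ) + ∑ i ∈ E, (χ : G → ℂ) (upow u i) := by
    intro χ
    have h1 : (h χ : ℂ) = Frame.fix p u χ := by
      rw [← F.sum_mu χ, Finset.sum_congr rfl fun l _ => hm χ l]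
      simp [h]
    rw [h1, Frame.fix, mul_inv_cancel_left₀ hpC, ← Finset.add_sum_erase _ _ (Finset.mem_univ (0 : ZMod p)),
      upow_zero, hDC]
  -- the values
  have hvX : ∀ χ ∈ X, ∀ i ∈ E, (χ : G → ℂ) (upow u i) = (εX χ : ℂ) := by
    intro χ hχ i hi
    have h := (hX χ hχ).2.2 (upow u i) (upow_mem hu i)
      (fun h' => (Finset.mem_erase.1 hi).1 ((upow_eq_one_iff F.orderOf_u i).1 h')) 1 (one_mem _)
      (by rw [orderOf_one, Nat.dvd_one]; omega)
    rwa [mul_one] at h
  have hsX : ∀ χ ∈ X, ∑ i ∈ E, (χ : G → ℂ) (upow u i) = ((p : ℂ) - 1) * (εX χ : ℂ) := fun χ hχ => by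
    rw [Finset.sum_congr rfl (hvX χ hχ), Finset.sum_const, hEcard, nsmul_eq_mul,
      Nat.cast_sub (by omega), Nat.cast_one]
  set O := (Finset.univ : Finset (IrrCharacter G)) \ (X ∪ Y) with hO
  have hvO : ∀ χ ∈ O, ∀ i ∈ E, (χ : G → ℂ) (upow u i) = 0 := by
    intro χ hχ i hi
    have hi0 := (Finset.mem_erase.1 hi).1
    have h1 := sum_irr_mul_conj (upow u i) (upow u i)
    rw [if_pos (IsConj.refl _), F.card_centralizer_upow hi0, ← Finset.sum_sdiff (Finset.subset_univ (X ∪ Y)),
      hBsum i hi0, add_eq_right] at h1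
    simp only [Complex.mul_conj, ← Complex.ofReal_sum, Complex.ofReal_eq_zero] at h1
    have h2 := (Finset.sum_eq_zero_iff_of_nonneg fun χ _ => Complex.normSq_nonneg _).1 h1 χ hχ
    exact Complex.normSq_eq_zero.1 h2
  have hhO : ∀ χ ∈ O, D χ = p * h χ := fun χ hχ => by
    have h1 := hfix χ
    rw [Finset.sum_eq_zero (hvO χ hχ), add_zero] at h1
    exact_mod_cast h1.symm
  have hhX : ∀ χ ∈ X, (p : ℤ) * h χ = D χ + ((p : ℤ) - 1) * εX χ := fun χ hχ => by
    have h1 := hfix χ
    rw [hsX χ hχ] at h1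
    exact_mod_cast h1
  have hhY : ∀ θ ∈ Y, (p : ℤ) * h θ = D θ - ε * e := fun θ hθ => by
    have h1 := hfix θ
    rw [show ∑ i ∈ E, (θ : G → ℂ) (upow u i) = _ from hYsum θ hθ, neg_mul, ← sub_eq_add_neg] at h1
    exact_mod_cast h1
  -- the degrees
  have hsqle : ∀ χ : IrrCharacter G, D χ ^ 2 ≤ Nat.card G := fun χ => by
    rw [← sum_natDegree_sq]
    exact Finset.single_le_sum (f := fun χ : IrrCharacter G => D χ ^ 2) (fun _ _ => Nat.zero_le _)
      (Finset.mem_univ χ)
  have hpe : e ≤ p - 1 := Nat.le_of_dvd (by omega) hed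
  have hdegX : ∀ χ ∈ X, χ ≠ trivIrr G →
      (εX χ = 1 ∧ D χ = np ∧ h χ = n + 1) ∨ (εX χ = -1 ∧ D χ = p - 1 ∧ h χ = 0) := by
    intro χ hχ hne
    obtain ⟨hs, hmod, -⟩ := hX χ hχ
    have hdvd : D χ ∣ e * np := by
      have h1 := degree_dvd_of_value χ hs (hvX χ hχ 1 (Finset.mem_erase.2 ⟨one_ne_zero, Finset.mem_univ _⟩))
      rwa [index_centralizer P hP (upow_mem hu _)
        (fun h' => one_ne_zero ((upow_eq_one_iff F.orderOf_u (1 : ZMod p)).1 h')), hrel, hn] at h1
    rcases hs with hs | hs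
    · rw [hs] at hmod
      rcases plus_degree hp.out.two_le hF hed hdvd hmod with h1 | h1
      · exact absurd (eq_trivIrr_of_degree_one hperf χ h1) hne
      · refine Or.inl ⟨hs, h1, ?_⟩
        have h2 := hhX χ hχ
        rw [hs, show (D χ : ℤ) = 1 + n * p by
          rw [h1]; push_cast; ring] at h2
        have : (p : ℤ) * h χ = p * (n + 1) := by linarith
        exact_mod_cast mul_left_cancel₀ (by omega) this
    · rw [hs] at hmod
      rcases minus_degree hp.out.two_le hF hed hdvd hmod with h1 | h1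
      · refine Or.inr ⟨hs, h1, ?_⟩
        have h2 := hhX χ hχ
        rw [hs, show (D χ : ℤ) = (p : ℤ) - 1 by
          rw [h1]; omega] at h2
        have : (p : ℤ) * h χ = p * 0 := by linarith
        exact_mod_cast mul_left_cancel₀ (by omega) this
      · exfalso
        have h2 := hsqle χ
        change D χ = (p - 1) * np at h1
        rw [h1, hGcard] at h2
        have h3 : (p - 1) * np * ((p - 1) * np) ≤ (p - 1) * np * p := by
          calc (p - 1) * np * ((p - 1) * np) = ((p - 1) * np) ^ 2 := by ring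
            _ ≤ p * (e * np) := h2
            _ ≤ p * ((p - 1) * np) := by gcongr
            _ = _ := by ring
        have h4 := Nat.le_of_mul_le_mul_left h3 (Nat.mul_pos (by omega) (by omega))
        have : 1 * np ≤ (p - 1) * np := Nat.mul_le_mul_right _ (by omega)
        omega
  have hm0 : ∀ χ, h χ = 0 → ∀ l, m χ l = 0 := fun χ hχ l =>
    Finset.sum_eq_zero_iff.1 hχ l (Finset.mem_univ l)
  -- the trivial character
  have hmt : ∀ l, m (trivIrr G) l = if l = 0 then 1 else 0 := by
    intro l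
    have h1 := hm (trivIrr G) l
    rw [Frame.mu, Finset.sum_congr rfl fun s _ => show ZMod.stdAddChar (-(s * l)) *
        ((p : ℂ)⁻¹ * ∑ i : ZMod p, ((trivIrr G : IrrCharacter G) : G → ℂ) (upow u i * cpow t s)) =
        ZMod.stdAddChar (s * -l) by
      simp only [trivIrr_apply, Finset.sum_const, Finset.card_univ, ZMod.card, nsmul_eq_mul, mul_one,
        inv_mul_cancel₀ hpC, mul_neg],
      Frame.sum_stdAddChar_eq] at h1
    simp only [neg_eq_zero] at h1
    split_ifs at h1 ⊢
    · rw [inv_mul_cancel₀ (Nat.cast_ne_zero.2 (NeZero.ne e))] at h1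
      exact_mod_cast h1.symm
    · rw [mul_zero] at h1
      exact_mod_cast h1.symm
  -- the exceptional characters
  obtain ⟨θ₀, hθ₀⟩ : Y.Nonempty := Finset.card_pos.1 (hfY ▸ hf0)
  set y := D θ₀ with hy
  have h1ord : ¬ p ∣ orderOf (1 : G) := by rw [orderOf_one, Nat.dvd_one]; omega
  have hDY : ∀ θ ∈ Y, D θ = y := fun θ hθ => by
    have h1 := hYeq θ hθ θ₀ hθ₀ 1 h1ord
    rw [hDC, hDC, Nat.cast_inj] at h1
    exact h1
  have hmY : ∀ θ ∈ Y, ∀ l, m θ l = m θ₀ l := by
    intro θ hθ l
    apply Nat.cast_injective (R := ℂ)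
    rw [← hm, ← hm, Frame.mu, Frame.mu]
    congr 1
    refine Finset.sum_congr rfl fun s _ => ?_
    congr 2
    by_cases hs : s = 0
    · subst hs
      simp only [cpow_zero, mul_one]
      rw [← Finset.add_sum_erase _ _ (Finset.mem_univ (0 : ZMod p)),
        ← Finset.add_sum_erase _ _ (Finset.mem_univ (0 : ZMod p)), upow_zero, hYsum θ hθ, hYsum θ₀ hθ₀,
        hYeq θ hθ θ₀ hθ₀ 1 h1ord]
    · refine Finset.sum_congr rfl fun i _ => hYeq θ hθ θ₀ hθ₀ _ ?_
      rw [orderOf_eq_of_isConj (F.isConj_mul i hs)]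
      exact F.not_dvd_cpow s
  set w : ZMod e → ℕ := m θ₀ with hw
  have hydvd : y ∣ e * np := by
    have := degree_dvd_of_sum_sylow P hP hrel hu hu1 θ₀ hε (hYsum θ₀ hθ₀)
    rwa [hn] at this
  have hymod : (y : ℤ) ≡ ε * e [ZMOD p] := hYd θ₀ hθ₀
  have hty : θ₀ ≠ trivIrr G := fun h' => Finset.disjoint_left.1 hdisj htX (h' ▸ hθ₀)
  have hy1 : y ≠ 1 := fun h' => hty (eq_trivIrr_of_degree_one hperf θ₀ h')
  have hεX1 : εX (trivIrr G) = 1 := by
    have h1 := hvX _ htX 1 (Finset.mem_erase.2 ⟨one_ne_zero, Finset.mem_univ _⟩)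
    rw [trivIrr_apply] at h1
    exact_mod_cast h1.symm
  set A := (X.erase (trivIrr G)).filter fun χ => εX χ = 1 with hA
  set B := (X.erase (trivIrr G)).filter fun χ => ¬ εX χ = 1 with hB
  have hAmem : ∀ χ ∈ A, D χ = np ∧ h χ = n + 1 ∧ εX χ = 1 := fun χ hχ => by
    obtain ⟨h1, h2⟩ := Finset.mem_filter.1 hχ
    rcases hdegX χ (Finset.mem_erase.1 h1).2 (Finset.mem_erase.1 h1).1 with ⟨a1, a2, a3⟩ | ⟨a1, -, -⟩
    · exact ⟨a2, a3, a1⟩
    · rw [a1] at h2; norm_num at h2
  have hBmem : ∀ χ ∈ B, D χ = p - 1 ∧ h χ = 0 ∧ εX χ = -1 := fun χ hχ => by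
    obtain ⟨h1, h2⟩ := Finset.mem_filter.1 hχ
    rcases hdegX χ (Finset.mem_erase.1 h1).2 (Finset.mem_erase.1 h1).1 with ⟨a1, -, -⟩ | ⟨a1, a2, a3⟩
    · exact absurd a1 h2
    · exact ⟨a2, a3, a1⟩
  have hAB : A.card + B.card + 1 = e := by
    rw [hA, hB, Finset.card_filter_add_card_filter_not, Finset.card_erase_of_mem htX, hXcard]
    omega
  have hsplit : ∀ {R : Type} [AddCommMonoid R] (φ : IrrCharacter G → R), ∑ χ, φ χ =
      φ (trivIrr G) + (∑ χ ∈ A, φ χ + ∑ χ ∈ B, φ χ) + ∑ χ ∈ Y, φ χ + ∑ χ ∈ O, φ χ := by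
    intro R _ φ
    rw [hA, hB, Finset.sum_filter_add_sum_filter_not, Finset.add_sum_erase _ _ htX,
      ← Finset.sum_union hdisj, hO, add_comm, Finset.sum_sdiff (Finset.subset_univ _)]
  -- the exceptional degree
  have hε' : (ε = 1 ∧ y = e ∧ h θ₀ = 0) ∨ (ε = -1 ∧ f * y = np ∧ f * h θ₀ = n + 1) := by
    rcases hε with hε | hε
    · left
      subst hε
      rw [one_mul] at hymod
      obtain ⟨k, hk⟩ := hydvd
      have hkmod : k % p = 1 := by
        have h1 : ((e : ℤ) * k) ≡ e * 1 [ZMOD p] := by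
          have h2 : ((y : ℤ) * k) ≡ e * 1 [ZMOD p] := by
            have h3 : ((y * k : ℕ) : ℤ) = (e : ℤ) * (1 + n * p) := by rw [← hk, hnp]; push_cast; ring
            push_cast at h3
            rw [h3, Int.modEq_iff_dvd]
            exact ⟨-(e * n), by ring⟩
          exact ((hymod.symm.mul_right (k : ℤ)).trans h2)
        have h4 : (k : ℤ) ≡ 1 [ZMOD p] := by
          rw [Int.modEq_iff_dvd, ← mul_sub] at h1
          rw [Int.modEq_iff_dvd]
          refine ((Nat.prime_iff_prime_int.1 hp.out).dvd_or_dvd h1).resolve_left fun h5 => ?_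
          have := Nat.le_of_dvd (by omega) (Int.natCast_dvd_natCast.1 h5)
          omega
        have : k ≡ 1 [MOD p] := Int.natCast_modEq_iff.1 (by exact_mod_cast h4)
        rw [this, Nat.one_mod_eq_one.2 (by omega)]
      have hye : y = e := by
        rcases eq_one_or_eq hp.out.two_le hF ((Dvd.intro_left y hk.symm).trans
          (Nat.mul_dvd_mul_right hed _)) hkmod with h1 | h1
        · exfalso
          have h2 := hrelX θ₀ hθ₀ 1 h1ord
          simp only [hDC] at h2
          have h3 : (y : ℤ) = ∑ χ ∈ X, εX χ * (D χ : ℤ) := by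
            have : ((1 : ℤ) : ℂ) * (y : ℂ) = ∑ χ ∈ X, (εX χ : ℂ) * (D χ : ℂ) := h2
            rw [Int.cast_one, one_mul] at this
            exact_mod_cast this
          have h4 : ∑ χ ∈ X, εX χ * (D χ : ℤ) ≤ 1 + ((e : ℤ) - 1) * np := by
            rw [← Finset.add_sum_erase _ _ htX, hεX1, one_mul,
              show (D (trivIrr G) : ℤ) = 1 by exact_mod_cast charDegree_triv]
            refine add_le_add le_rfl ((Finset.sum_le_card_nsmul _ _ (np : ℤ) fun χ hχ => ?_).trans ?_)
            · rcases hdegX χ (Finset.mem_erase.1 hχ).2 (Finset.mem_erase.1 hχ).1 with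
                ⟨a1, a2, -⟩ | ⟨a1, a2, -⟩
              · rw [a1, one_mul, a2]
              · rw [a1, a2]; omega
            · rw [Finset.card_erase_of_mem htX, hXcard, nsmul_eq_mul, Nat.cast_sub (by omega), Nat.cast_one]
          rw [h1, mul_one] at hk
          rw [← hk] at h3
          push_cast at h3
          nlinarith [(by exact_mod_cast hnp_lt : (p : ℤ) < np), (by exact_mod_cast hp3 : (3 : ℤ) ≤ p)]
        · rw [h1] at hk
          exact (Nat.eq_of_mul_eq_mul_right (by omega) hk).symm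
      refine ⟨rfl, hye, ?_⟩
      have h1 := hhY θ₀ hθ₀
      rw [← hy, hye, one_mul, sub_self, mul_eq_zero] at h1
      exact_mod_cast h1.resolve_left (by exact_mod_cast hp.out.ne_zero)
    · right
      subst hε
      have hfy : f * y ∣ (p - 1) * np := by
        rw [hf, mul_comm e f, mul_assoc]; exact Nat.mul_dvd_mul_left f hydvd
      have hmod : (f * y) % p = 1 := by
        have h1 : ((f * y : ℕ) : ℤ) ≡ 1 [ZMOD p] := by
          push_cast
          refine (hymod.mul_left (f : ℤ)).trans ?_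
          rw [Int.modEq_iff_dvd]
          refine ⟨1, ?_⟩
          have : ((e * f : ℕ) : ℤ) = (p : ℤ) - 1 := by rw [← hf]; omega
          push_cast at this
          linear_combination this
        have : f * y ≡ 1 [MOD p] := Int.natCast_modEq_iff.1 (by exact_mod_cast h1)
        rw [this, Nat.one_mod_eq_one.2 (by omega)]
      rcases eq_one_or_eq hp.out.two_le hF hfy hmod with h1 | h1
      · exact absurd (Nat.eq_one_of_mul_eq_one_left h1) hy1
      · refine ⟨rfl, h1, ?_⟩
        have h2 := hhY θ₀ hθ₀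
        rw [← hy] at h2
        have h3 : ((e * f : ℕ) : ℤ) = (p : ℤ) - 1 := by rw [← hf]; omega
        have h4 : ((f * y : ℕ) : ℤ) = 1 + n * p := by rw [h1]; push_cast; ring
        push_cast at h3 h4
        have : (p : ℤ) * ((f : ℤ) * h θ₀) = p * (n + 1) := by
          linear_combination (f : ℤ) * h2 + h4 + h3
        exact_mod_cast mul_left_cancel₀ (by omega) this
  -- the value identity
  have hB1 : ∀ l, m (trivIrr G) l + ∑ χ ∈ A, m χ l + w l = 1 := by
    intro l
    have hsum : ∑ k ∈ E, ∑ χ : IrrCharacter G, (m χ l : ℂ) * conj ((χ : G → ℂ) (upow u k)) =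
        ((p : ℂ) - 1) := by
      rw [Finset.sum_congr rfl fun k hk => show
          ∑ χ : IrrCharacter G, (m χ l : ℂ) * conj ((χ : G → ℂ) (upow u k)) = 1 by
        rw [← F.sum_mu_upow l (Finset.mem_erase.1 hk).1]
        exact Finset.sum_congr rfl fun χ _ => by rw [hm χ l],
        Finset.sum_const, hEcard, nsmul_eq_mul, mul_one, Nat.cast_sub (by omega), Nat.cast_one]
    rw [Finset.sum_comm] at hsum
    simp only [← Finset.mul_sum, ← map_sum] at hsum
    rw [hsplit, hsX _ htX, hεX1,
      Finset.sum_congr (rfl : A = A) (g := fun χ => (m χ l : ℂ) * ((p : ℂ) - 1)) fun χ hχ => by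
        rw [hsX χ (Finset.mem_erase.1 (Finset.mem_filter.1 hχ).1).2, (hAmem χ hχ).2.2]
        simp,
      Finset.sum_eq_zero (s := B) fun χ hχ => by rw [hm0 χ (hBmem χ hχ).2.1 l, Nat.cast_zero, zero_mul],
      Finset.sum_eq_zero (s := O) fun χ hχ => by rw [Finset.sum_eq_zero (hvO χ hχ), map_zero, mul_zero],
      Finset.sum_congr (rfl : Y = Y) (g := fun _ => (w l : ℂ) * -((ε : ℂ) * e)) fun χ hχ => by
        rw [show ∑ i ∈ E, (χ : G → ℂ) (upow u i) = _ from hYsum χ hχ, hmY χ hχ l]
        simp [hw],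
      Finset.sum_const, hfY, ← Finset.sum_mul] at hsum
    simp only [Int.cast_one, mul_one, map_sub, map_natCast, map_one, add_zero, nsmul_eq_mul] at hsum
    have hef : (e : ℂ) * f = (p : ℂ) - 1 := by
      rw [← Nat.cast_mul, ← hf, Nat.cast_sub (by omega), Nat.cast_one]
    rcases hε' with ⟨hε1, -, hh0⟩ | ⟨hε1, -, -⟩
    · have hw0 : w l = 0 := hm0 θ₀ hh0 l
      rw [hw0, Nat.cast_zero, zero_mul, mul_zero, add_zero, ← add_mul] at hsum
      have h2 : ((m (trivIrr G) l : ℂ) + ∑ χ ∈ A, (m χ l : ℂ)) = 1 := by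
        have hp1 : (p : ℂ) - 1 ≠ 0 := by
          rw [← hef]; exact mul_ne_zero (Nat.cast_ne_zero.2 (NeZero.ne e)) (Nat.cast_ne_zero.2 hf0.ne')
        exact mul_right_cancel₀ hp1 (hsum.trans (one_mul _).symm)
      rw [hw0, add_zero]
      exact_mod_cast h2
    · rw [hε1] at hsum
      have h2 : ((m (trivIrr G) l : ℂ) + ∑ χ ∈ A, (m χ l : ℂ) + (w l : ℂ)) = 1 := by
        have hp1 : (p : ℂ) - 1 ≠ 0 := by
          rw [← hef]; exact mul_ne_zero (Nat.cast_ne_zero.2 (NeZero.ne e)) (Nat.cast_ne_zero.2 hf0.ne')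
        refine mul_right_cancel₀ hp1 (Eq.trans ?_ (one_mul _).symm)
        push_cast at hsum
        linear_combination hsum - (w l : ℂ) * hef
      exact_mod_cast h2
  -- the induced degree
  have hD1 : ∀ l, m (trivIrr G) l + np * (∑ χ ∈ A, m χ l + w l) + ∑ χ ∈ O, m χ l * D χ = np := by
    intro l
    have h1 : ∑ χ : IrrCharacter G, m χ l * D χ = np := by
      apply Nat.cast_injective (R := ℂ)
      rw [Nat.cast_sum, ← hn, ← F.sum_mu_degree l]
      exact Finset.sum_congr rfl fun χ _ => by rw [Nat.cast_mul, hm χ l, hDC]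
    rw [hsplit, show D (trivIrr G) = 1 from charDegree_triv, mul_one,
      Finset.sum_congr (rfl : A = A) (g := fun χ => m χ l * np) fun χ hχ => by rw [(hAmem χ hχ).1],
      Finset.sum_eq_zero (s := B) fun χ hχ => by rw [hm0 χ (hBmem χ hχ).2.1 l, zero_mul],
      Finset.sum_congr (rfl : Y = Y) (g := fun _ => w l * y) fun χ hχ => by rw [hmY χ hχ l, hDY χ hχ],
      Finset.sum_const, hfY, smul_eq_mul, ← Finset.sum_mul, add_zero] at h1
    rcases hε' with ⟨-, -, hh0⟩ | ⟨-, hfy, -⟩
    · rw [show w l = 0 from hm0 θ₀ hh0 l] at h1 ⊢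
      simp only [zero_mul, mul_zero, add_zero] at h1 ⊢
      linarith
    · have : f * (w l * y) = np * w l := by rw [← hfy]; ring
      rw [this] at h1
      linarith
  have hOl : ∀ χ ∈ O, ∀ l : ZMod e, l ≠ 0 → m χ l = 0 := by
    intro χ hχ l hl
    have h1 := hB1 l
    rw [hmt, if_neg hl, zero_add] at h1
    have h2 := hD1 l
    rw [hmt, if_neg hl, zero_add, h1, mul_one] at h2
    have h3 : ∑ χ ∈ O, m χ l * D χ = 0 := by omega
    exact (mul_eq_zero.1 (Finset.sum_eq_zero_iff.1 h3 χ hχ)).resolve_right (charDegree_pos χ).ne'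
  have hh0 : ∀ χ ∈ O, m χ 0 = h χ := fun χ hχ => by
    show _ = ∑ l, m χ l
    rw [Finset.sum_eq_single (0 : ZMod e) (fun l _ hl => hOl χ hχ l hl)
      (fun h' => absurd (Finset.mem_univ _) h')]
  have hAw0 : (∀ χ ∈ A, m χ 0 = 0) ∧ w 0 = 0 := by
    have h1 := hB1 0
    rw [hmt, if_pos rfl] at h1
    exact ⟨fun χ hχ => Finset.sum_eq_zero_iff.1 (show ∑ χ ∈ A, m χ 0 = 0 by omega) χ hχ, by omega⟩
  have hsq : ∑ χ ∈ O, h χ ^ 2 = n := by
    have h1 := hD1 0
    rw [hmt, if_pos rfl, Finset.sum_eq_zero hAw0.1, hAw0.2, Finset.sum_congr rfl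
      (g := fun χ => p * h χ ^ 2) fun χ hχ => by rw [hh0 χ hχ, hhO χ hχ]; ring, ← Finset.mul_sum] at h1
    have : p * ∑ χ ∈ O, h χ ^ 2 = p * n := by rw [mul_comm p n]; omega
    exact Nat.eq_of_mul_eq_mul_left hp.out.pos this
  have hcount : A.card * (n + 1) + h θ₀ + 1 = e := by
    have h1 : ∑ l : ZMod e, (m (trivIrr G) l + ∑ χ ∈ A, m χ l + w l) = e := by
      rw [Finset.sum_congr rfl fun l _ => hB1 l, Finset.sum_const, Finset.card_univ, ZMod.card,
        smul_eq_mul, mul_one]
    rw [Finset.sum_add_distrib, Finset.sum_add_distrib, Finset.sum_comm,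
      Finset.sum_congr rfl fun χ hχ => show ∑ l, m χ l = n + 1 from (hAmem χ hχ).2.1,
      Finset.sum_const, smul_eq_mul, Finset.sum_congr rfl fun l _ => hmt l, Finset.sum_ite_eq',
      if_pos (Finset.mem_univ _)] at h1
    show A.card * (n + 1) + ∑ l, w l + 1 = e
    omega
  -- the torus
  have htorus : ∀ s₀ : ZMod e, s₀ ≠ 0 → (Frame.fused e t (cpow t s₀)).card *
      Nat.card (Subgroup.centralizer ({cpow t s₀} : Set G)) = e * (n + 1) := by
    intro s₀ hs₀
    have h1 := F.sum_mu_cpow hs₀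
    rw [hsplit, Finset.sum_eq_zero (s := A) (fun χ hχ => by rw [hm χ 0, hAw0.1 χ hχ]; simp),
      Finset.sum_eq_zero (s := B) (fun χ hχ => by rw [hm χ 0, hm0 χ (hBmem χ hχ).2.1 0]; simp),
      Finset.sum_eq_zero (s := Y) (fun χ hχ => by rw [hm χ 0, hmY χ hχ 0, hAw0.2]; simp),
      Finset.sum_congr (rfl : O = O) (g := fun χ => ((h χ ^ 2 : ℕ) : ℂ)) (fun χ hχ => by
        have hv : (χ : G → ℂ) (cpow t s₀) = (h χ : ℂ) := by
          rw [F.apply_cpow χ hs₀, Finset.sum_eq_single (0 : ZMod e) (fun l _ hl => by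
            rw [hm χ l, hOl χ hχ l hl, Nat.cast_zero, zero_mul]) (fun h' => absurd (Finset.mem_univ _) h'),
            hm χ 0, hh0 χ hχ, mul_zero, AddChar.map_zero_eq_one, mul_one]
        rw [hv, hm χ 0, hh0 χ hχ, map_natCast, Nat.cast_pow, pow_two]),
      ← Nat.cast_sum, hsq, trivIrr_apply, map_one, mul_one, hm, hmt, if_pos rfl] at h1
    have he : (e : ℂ) ≠ 0 := Nat.cast_ne_zero.2 (NeZero.ne e)
    apply Nat.cast_injective (R := ℂ)
    rw [eq_inv_mul_iff_mul_eq₀ he] at h1
    push_cast at h1 ⊢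
    linear_combination -h1
  have h10 : (1 : ZMod e) ≠ 0 := by
    haveI : Fact (1 < e) := ⟨by omega⟩
    exact one_ne_zero
  have hMdvd : n + 1 ∣ p * np := by
    have h1 := card_fused_mul_dvd F.pow_t F.order h10
    have h2 := htorus 1 h10
    have h3 : cpow t (1 : ZMod e) = t := by
      haveI : Fact (1 < e) := ⟨by omega⟩
      rw [cpow, ZMod.val_one, pow_one]
    rw [h3] at h2
    rw [h2, hGcard, show p * (e * np) = e * (p * np) by ring] at h1
    exact Nat.dvd_of_mul_dvd_mul_left (by omega) h1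
  have hpnp : (p : ℤ) * (n + 1) - (1 + n * p) = p - 1 := by ring
  rcases hε' with ⟨-, hye, hh₀⟩ | ⟨-, hfy, hfv⟩
  · -- exceptional degree `e`
    left
    rw [hh₀, add_zero] at hcount
    have ha : 1 ≤ A.card := by
      by_contra h'
      rw [show A.card = 0 by omega, zero_mul] at hcount
      omega
    have hle : n + 1 ≤ e - 1 := by
      have : 1 * (n + 1) ≤ A.card * (n + 1) := Nat.mul_le_mul_right _ ha
      omega
    have hcop : Nat.Coprime (n + 1) p :=
      Nat.coprime_comm.1 (hp.out.coprime_iff_not_dvd.2 fun h' => by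
        have := Nat.le_of_dvd (by omega) h'; omega)
    have h1 : n + 1 ∣ np := hcop.dvd_of_dvd_mul_left hMdvd
    have h2 : n + 1 ∣ p - 1 := by
      have h2a : p * (n + 1) = np + (p - 1) := by
        rw [hnp, mul_add, mul_comm p n]; omega
      exact (Nat.dvd_add_iff_right h1).2 (h2a ▸ dvd_mul_left _ _)
    have h3 : n + 1 ∣ f := by
      refine Nat.Coprime.dvd_of_dvd_mul_left ?_ (hf ▸ h2)
      have hgd : Nat.gcd (n + 1) e ∣ 1 := by
        have h4 : Nat.gcd (n + 1) e ∣ A.card * (n + 1) := (Nat.gcd_dvd_left _ _).mul_left _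
        exact (Nat.dvd_add_iff_right h4).2 (by rw [hcount]; exact Nat.gcd_dvd_right _ _)
      exact Nat.dvd_one.1 hgd
    have hf2 : f ≤ 2 := by
      by_contra hf3
      have hsmall : 2 * charDegree (θ₀ : G → ℂ) + 1 < p := by
        show 2 * y + 1 < p
        have h3f : e * 3 ≤ e * f := Nat.mul_le_mul_left e (by omega)
        omega
      obtain ⟨u', O', S⟩ := exists_primeSplit (P : Subgroup G) hP (sq_not_dvd P hP)
      haveI : Fintype (Subgroup.centralizer ((P : Subgroup G) : Set G)) := Fintype.ofFinite _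
      have hgen : ∀ l : G →* ℂˣ, l u' = 1 → l = 1 := fun l _ => MonoidHom.ext fun g =>
        MonoidHom.mem_ker.1 (Abelianization.commutator_subset_ker l (hperf ▸ Subgroup.mem_top g))
      have hcen : ∀ g : G, g ∈ (P : Subgroup G) := by
        intro g
        have h4 := hfaith θ₀ hty _ (S.comm_eq_of_small hM hgen θ₀ hsmall g)
        rw [mul_inv_eq_one, mul_inv_eq_iff_eq_mul] at h4
        rw [← hC]
        refine Subgroup.mem_centralizer_iff.2 fun x hx => ?_
        obtain ⟨i, rfl⟩ := exists_upow_eq hP S.mem S.ne_one hx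
        exact Commute.pow_left h4 i.val
      have h5 : Nat.card G = p := by
        rw [← Subgroup.card_top (G := G), ← (Subgroup.eq_top_iff' _).2 hcen]
        exact hP
      rw [hGcard] at h5
      have : p * 2 ≤ p * (e * np) := Nat.mul_le_mul_left p (by nlinarith)
      omega
    have hle2 := Nat.le_of_dvd hf0 h3
    have hn1 : n = 1 := by omega
    refine ⟨?_, hn1, ?_⟩
    · have : f = 2 := by omega
      subst this
      omega
    · have hf2' : f = 2 := by omega
      rw [hGcard, hnp, hn1, one_mul]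
      have hpe' : (e : ℤ) * 2 = (p : ℤ) - 1 := by rw [hf2'] at hf; omega
      have h5 : (1 : ℤ) ≤ (p : ℤ) ^ 2 := by
        have : (3 : ℤ) ≤ p := by exact_mod_cast hp3
        nlinarith
      zify [show 1 ≤ p ^ 2 by exact_mod_cast h5]
      linear_combination (p : ℤ) * (1 + p) * hpe'
  · -- exceptional degree `(1 + n p) / f`
    set v := h θ₀ with hv
    have hv0 : 0 < v := by
      by_contra h'
      rw [show v = 0 by omega, mul_zero] at hfv
      omega
    have hvy : p * v = y + e := by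
      have h1 : ((f : ℤ) * y) = 1 + n * p := by
        have := congrArg (fun k : ℕ => (k : ℤ)) hfy
        simpa [hnp] using this
      have h2 : ((f : ℤ) * v) = n + 1 := by exact_mod_cast hfv
      have h3 : ((e * f : ℕ) : ℤ) = (p : ℤ) - 1 := by rw [← hf]; omega
      push_cast at h3
      have h4 : (f : ℤ) * ((p : ℤ) * v) = f * (y + e) := by linear_combination (p : ℤ) * h2 - h1 - h3
      exact_mod_cast mul_left_cancel₀ (by omega) h4
    have hv1 : v = 1 := by
      have h1 : v ∣ p * y := by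
        have h2 : f * v ∣ f * (p * y) := by
          rw [hfv, show f * (p * y) = p * (f * y) by ring, hfy]; exact hMdvd
        exact Nat.dvd_of_mul_dvd_mul_left hf0 h2
      have hcop : Nat.Coprime v p := Nat.coprime_comm.1 (hp.out.coprime_iff_not_dvd.2 fun h' => by
        have := Nat.le_of_dvd hv0 h'; omega)
      have h2 : v ∣ y := hcop.dvd_of_dvd_mul_left h1
      have h3 : v ∣ e := (Nat.dvd_add_iff_right h2).2 (hvy ▸ dvd_mul_left _ _)
      have h4 : v ∣ A.card * (n + 1) + v := dvd_add ((Dvd.intro_left f hfv).mul_left _) dvd_rfl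
      exact Nat.dvd_one.1 ((Nat.dvd_add_iff_right h4).2 (by rw [hcount]; exact h3))
    rw [hv1, mul_one] at hfv
    rw [hv1] at hcount
    rw [hv1, mul_one] at hvy
    rcases Nat.lt_or_ge f 3 with hf3 | hf3
    · left
      have hf2 : f = 2 := by omega
      have hn1 : n = 1 := by omega
      refine ⟨by rw [hf2] at hf; omega, hn1, ?_⟩
      rw [hGcard, hnp, hn1, one_mul]
      have hpe' : (e : ℤ) * 2 = (p : ℤ) - 1 := by rw [hf2] at hf; omega
      have h5 : (1 : ℤ) ≤ (p : ℤ) ^ 2 := by
        have : (3 : ℤ) ≤ p := by exact_mod_cast hp3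
        nlinarith
      zify [show 1 ≤ p ^ 2 by exact_mod_cast h5]
      linear_combination (p : ℤ) * (1 + p) * hpe'
    rw [show n + 1 = f from hfv.symm] at hcount
    obtain ⟨e', he'⟩ : ∃ e', e = 2 * e' := by
      rcases Nat.even_or_odd' e with ⟨k, hk | hk⟩
      · exact ⟨k, hk⟩
      · exfalso
        obtain ⟨q, hq⟩ := hp.out.odd_of_ne_two hodd
        have hev : 2 ∣ f := by
          have h1 : 2 ∣ e * f := ⟨q, by rw [← hf]; omega⟩
          exact (Nat.prime_two.dvd_mul.1 h1).resolve_left (by omega)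
        obtain ⟨f', rfl⟩ := hev
        rw [show A.card * (2 * f') = 2 * (A.card * f') by ring] at hcount
        omega
    set s₀ : ZMod e := (e' : ZMod e) with hs₀def
    have hs₀v : s₀.val = e' := by rw [hs₀def, ZMod.val_natCast, Nat.mod_eq_of_lt (by omega)]
    have hs₀ : s₀ ≠ 0 := fun h' => by rw [h', ZMod.val_zero] at hs₀v; omega
    set z := cpow t s₀ with hz
    have hzo : orderOf z = 2 := by
      rw [hz, cpow, hs₀v, orderOf_pow_of_dvd (by omega) (by rw [F.order]; exact Dvd.intro_left 2 he'.symm),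
        F.order, he', Nat.mul_div_cancel _ (by omega)]
    have hCz := htorus s₀ hs₀
    rw [hfv.symm, ← hz] at hCz
    by_cases he4 : e = 2
    · right
      subst he4
      have hA0 : A.card = 0 := by
        rcases Nat.eq_zero_or_pos A.card with h' | h'
        · exact h'
        · have : 1 * f ≤ A.card * f := Nat.mul_le_mul_right _ h'
          omega
      obtain ⟨θ, hθ⟩ := Finset.card_eq_one.1 (show B.card = 1 by omega)
      obtain ⟨hθD, hθh, hθε⟩ := hBmem θ (hθ ▸ Finset.mem_singleton_self θ)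
      have hθX : θ ∈ X := (Finset.mem_erase.1 (Finset.mem_filter.1 (hθ ▸ Finset.mem_singleton_self θ)).1).2
      refine ⟨θ, z, by omega, ?_, ?_, hθD, fun χ hχ => ?_, fun g hg => ?_, fun g hg => ?_, hzo, ?_, ?_⟩
      · have hy2 : y = p - 2 := by omega
        rw [hGcard, ← hfy, hy2, hf]
        ring
      · have hy2 : y = p - 2 := by omega
        rw [hn, ← hfy, hy2, hf]
        ring
      · change D χ = p - 1 at hχ
        by_cases hχO : χ ∈ O
        · rw [hhO χ hχO] at hχ
          rcases Nat.eq_zero_or_pos (h χ) with h' | h'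
          · rw [h', mul_zero] at hχ; omega
          · have : p * 1 ≤ p * h χ := Nat.mul_le_mul_left p h'
            omega
        have hXY : χ ∈ X ∪ Y := by
          by_contra h'
          exact hχO (Finset.mem_sdiff.2 ⟨Finset.mem_univ _, h'⟩)
        rcases Finset.mem_union.1 hXY with h' | h'
        · by_cases hne : χ = trivIrr G
          · rw [hne, show D (trivIrr G) = 1 from charDegree_triv] at hχ; omega
          · rcases hdegX χ h' hne with ⟨-, h2, -⟩ | ⟨h2, -, -⟩
            · rw [h2] at hχ; omega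
            · have : χ ∈ B := Finset.mem_filter.2 ⟨Finset.mem_erase.2 ⟨hne, h'⟩, by rw [h2]; norm_num⟩
              rw [hθ] at this
              exact Finset.mem_singleton.1 this
        · rw [hDY χ h'] at hχ; omega
      · obtain ⟨i, hi, hgi⟩ := F.exists_conj_upow (g := g) (hg ▸ dvd_rfl)
        rw [IsClassFunction.eq_of_isConj (irr_isClassFunction θ) hgi,
          hvX θ hθX i (Finset.mem_erase.2 ⟨hi, Finset.mem_univ _⟩), hθε]
        norm_num
      · obtain ⟨i, hi, hgi⟩ := F.exists_conj_upow hg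
        rw [orderOf_eq_of_isConj hgi, orderOf_of_mem_prime hP (upow_mem hu i)
          fun h' => hi ((upow_eq_one_iff F.orderOf_u i).1 h')]
      · have hk : Frame.fused 2 t z = {s₀} := by
          ext s
          simp only [Frame.fused, Finset.mem_filter, Finset.mem_univ, true_and, Finset.mem_singleton]
          refine ⟨fun hs => ?_, fun hs => hs ▸ ⟨hs₀, IsConj.refl _⟩⟩
          have : ∀ a b : ZMod 2, a ≠ 0 → b ≠ 0 → a = b := by decide
          exact this _ _ hs.1 hs₀
        rw [hk, Finset.card_singleton, one_mul] at hCz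
        rw [hCz, hf]
      · rw [hz, F.apply_cpow θ hs₀]
        exact Finset.sum_eq_zero fun l _ => by rw [hm θ l, hm0 θ hθh l, Nat.cast_zero, zero_mul]
    -- too many involutions
    exfalso
    have hk1 : 1 ≤ (Frame.fused e t z).card :=
      Finset.card_pos.2 ⟨s₀, Finset.mem_filter.2 ⟨Finset.mem_univ _, hs₀, IsConj.refl _⟩⟩
    have hCle : Nat.card (Subgroup.centralizer ({z} : Set G)) ≤ e * f :=
      hCz ▸ Nat.le_mul_of_pos_left _ hk1
    have hcls := card_conj_mul_card_centralizer z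
    have hle : Nat.card {x : G // IsConj z x} ≤ Nat.card {x : G // orderOf x = 2} :=
      Nat.card_le_card_of_injective (fun x => ⟨x.1, (orderOf_eq_of_isConj x.2).symm.trans hzo⟩)
        fun a b h' => Subtype.ext (congrArg (fun x => (x : {x : G // orderOf x = 2}).1) h')
    have hlow : p * y ≤ Nat.card {x : G // orderOf x = 2} := by
      refine le_trans (Nat.le_of_mul_le_mul_right ?_ (show 0 < e * f by positivity)) hle
      calc p * y * (e * f) = Nat.card G := by rw [hGcard, ← hfy]; ring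
        _ ≤ _ := hcls ▸ Nat.mul_le_mul_left _ hCle
    have hup := CharMisc.card_involution_le (G := G)
    have hup2 : Nat.card {x : G // orderOf x = 2} + 1 ≤ ∑ χ : IrrCharacter G, D χ := by
      have h1 : ∀ χ : IrrCharacter G, CharMisc.realDeg χ ≤ (D χ : ℝ) := fun χ => by
        unfold CharMisc.realDeg
        split_ifs
        · rw [hDC, Complex.natCast_re]
        · exact Nat.cast_nonneg _
      have h2 : ((Nat.card {x : G // orderOf x = 2} : ℕ) : ℝ) ≤
          ((∑ χ ∈ (Finset.univ : Finset (IrrCharacter G)).erase (trivIrr G), D χ : ℕ) : ℝ) := by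
        push_cast
        refine hup.trans ((Finset.sum_le_sum fun χ _ => h1 χ).trans
          (le_of_eq (Finset.sum_congr ?_ fun _ _ => rfl)))
        ext χ
        simp only [Finset.mem_filter, Finset.mem_univ, true_and, Finset.mem_erase, and_true, ne_eq,
          Subtype.ext_iff]
        rfl
      have h3 := (Nat.cast_le (α := ℝ)).1 h2
      rw [← Finset.add_sum_erase _ _ (Finset.mem_univ (trivIrr G)),
        show D (trivIrr G) = 1 from charDegree_triv]
      omega
    have hOle : ∑ χ ∈ O, D χ ≤ p * n := by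
      rw [Finset.sum_congr rfl hhO, ← Finset.mul_sum, ← hsq]
      exact Nat.mul_le_mul_left p (Finset.sum_le_sum fun χ _ => Nat.le_self_pow two_ne_zero _)
    rw [hsplit, show D (trivIrr G) = 1 from charDegree_triv,
      Finset.sum_congr (rfl : A = A) (fun χ hχ => (hAmem χ hχ).1),
      Finset.sum_congr (rfl : B = B) (fun χ hχ => (hBmem χ hχ).1), Finset.sum_congr (rfl : Y = Y) hDY,
      Finset.sum_const, Finset.sum_const, Finset.sum_const, hfY, smul_eq_mul, smul_eq_mul,
      smul_eq_mul, ← hfy] at hup2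
    have key : p * y ≤ A.card * (f * y) + B.card * (p - 1) + f * y + p * n := by omega
    have hz1 : (p : ℤ) * y ≤ A.card * (f * y) + B.card * ((p : ℤ) - 1) + f * y + p * n := by
      have h1 : ((p * y : ℕ) : ℤ) ≤ ((A.card * (f * y) + B.card * (p - 1) + f * y + p * n : ℕ) : ℤ) := by
        exact_mod_cast key
      push_cast [Nat.cast_sub (show 1 ≤ p by omega)] at h1
      exact h1
    have hpz : (p : ℤ) = (e : ℤ) * f + 1 := by
      have : ((e * f : ℕ) : ℤ) = (p : ℤ) - 1 := by rw [← hf]; omega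
      push_cast at this; linarith
    have hnz : (n : ℤ) = (f : ℤ) - 1 := by omega
    have hBz : (B.card : ℤ) = (e : ℤ) - 1 - A.card := by omega
    have haz : (A.card : ℤ) * f = (e : ℤ) - 2 := by
      have : ((A.card * f + 1 + 1 : ℕ) : ℤ) = (e : ℤ) := by exact_mod_cast hcount
      push_cast at this; linarith
    have hyz : (y : ℤ) = (p : ℤ) - e := by omega
    rw [hyz, hpz, hnz, hBz] at hz1
    have e3 : (3 : ℤ) ≤ e := by omega
    have f3 : (3 : ℤ) ≤ f := by exact_mod_cast hf3
    have hdiff : ((e : ℤ) * f + 1) * ((e : ℤ) * f + 1 - e) -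
        ((A.card : ℤ) * (f * ((e : ℤ) * f + 1 - e)) + ((e : ℤ) - 1 - A.card) * ((e : ℤ) * f + 1 - 1) +
          f * ((e : ℤ) * f + 1 - e) + ((e : ℤ) * f + 1) * ((f : ℤ) - 1)) =
        ((e : ℤ) - 2) * ((f : ℤ) - 2) * ((e : ℤ) * f + 1 - e) := by
      linear_combination -((e : ℤ) * f + 1 - e - e) * haz
    have hpos : 0 < ((e : ℤ) - 2) * ((f : ℤ) - 2) * ((e : ℤ) * f + 1 - e) :=
      mul_pos (mul_pos (by linarith) (by linarith)) (by nlinarith)
    linarith

end Cfsg.Agent.Lib.BrauerPrime
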